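import Cfsg.Agent.H128.Rg.SpAbs
import Cfsg.Agent.H659.CovSp
import Cfsg.Agent.H951.Block
import Cfsg.Agent.H951.Iso
import Cfsg.Agent.H449.Reg.Types
import Cfsg.Agent.H925.Rs.Pair

/-!
# S3691: elements of primitive prime order in isometry groups of alternating forms (helper925)

* `blk` : an element of order `t`, `ord_t(q) = k > n / 2`;  `dim_odd` : `k` odd, `k > n / 4`
* `ext_even`, `ext_odd` : consequences of `AExt`;  `par` : two parities
* `sp_list` : the list lemma for groups of isometries (dimension at least ten)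
-/

set_option autoImplicit false
set_option linter.unusedSectionVars false

namespace Cfsg.Agent.H925.Rs

open Module QuadraticMap Cfsg Cfsg.Geo Matrix Polynomial Cfsg.Agent.LieClassical.OrthCore Cfsg.Agent.H884.El Cfsg.Agent.H449.Reg
open Cfsg.Agent.H951 (fx cm Inv Irr Frm Nd TI Isom)
open Cfsg.Agent.H278.Cov (Num Red Ext)
open scoped MatrixGroups

universe v w

section elt

variable {F : Type v} [Field F] {V : Type w} [AddCommGroup V] [Module F V] {B : LinearMap.BilinForm F V}

theorem frm (hB : ∀ x, B x x = 0) : Frm (RingHom.id F) (-1) (fun u v => B u v) where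
  add_left u v w := by rw [map_add, LinearMap.add_apply]
  smul_left a u v := by rw [map_smul, LinearMap.smul_apply, smul_eq_mul]
  herm u v := by
    have h1 := hB (u + v)
    simp only [map_add, LinearMap.add_apply, hB, zero_add, add_zero] at h1
    change B v u = -1 * B u v
    linear_combination h1
  sigma_sq _ := rfl
  eps_ne := by simp

theorem isom_of {x : V ≃ₗ[F] V} (hx : x ∈ Isos B) : Isom (fun u v => B u v) (x : Module.End F V) := fun u v => hx u v

theorem nd_top (hnd : ∀ x, (∀ y, B x y = 0) → x = 0) : Nd (fun u v => B u v) (⊤ : Submodule F V) := by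
  intro u _ hu
  by_contra h
  push Not at h
  exact hu (hnd u fun y => h y trivial)

theorem even_of_nd [FiniteDimensional F V] (hB : ∀ x, B x x = 0) {W : Submodule F V} (hW : Nd (fun u v => B u v) W) :
    Even (finrank F W) := H951.even_finrank_of_alt (frm hB) hB hW

variable [Fintype F] [FiniteDimensional F V] {x : V ≃ₗ[F] V} {t k : ℕ}

theorem pow_coe (x : V ≃ₗ[F] V) (n : ℕ) : ((x ^ n : V ≃ₗ[F] V) : Module.End F V) = (x : Module.End F V) ^ n := by
  induction n with
  | zero => rfl
  | succ n ih =>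
    rw [pow_succ, pow_succ, ← ih]
    rfl

theorem coe_pow_eq (hx : x ^ t = 1) : (x : Module.End F V) ^ t = 1 := by rw [← pow_coe, hx]; rfl

theorem coe_ne_one (hx : x ≠ 1) : (x : Module.End F V) ≠ 1 := fun h => hx (by
  apply LinearEquiv.ext
  intro v
  exact congrArg (fun e : Module.End F V => e v) h)

/-- data of an element of order `t`, `ord_t(q) = k > n / 2` -/
theorem blk (ht : PP (Nat.card F) k t) (hk : 2 ≤ k) (hn : finrank F V < 2 * k) (hx : x ^ t = 1) (hx1 : x ≠ 1) :
    finrank F (fx (x : Module.End F V)) + k = finrank F V ∧ finrank F (cm (x : Module.End F V)) = k ∧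
    (∀ W : Submodule F V, Inv (x : Module.End F V) W → W ≤ fx (x : Module.End F V) ∨ cm (x : Module.End F V) ≤ W) ∧
      ∀ U ≤ cm (x : Module.End F V), Inv (x : Module.End F V) U → U = ⊥ ∨ U = cm (x : Module.End F V) := by
  have := Fact.mk ht.prime
  have hx' := coe_pow_eq hx
  have hx1' := coe_ne_one hx1
  have h0 : (t : F) ≠ 0 := ht.ne0 (by omega)
  have hc := H951.isCompl_fx_cm h0 hx'
  have hdvd : ∀ W : Submodule F V, Inv (x : Module.End F V) W → k ∣ finrank F ↥(W ⊓ cm (x : Module.End F V)) := by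
    intro W hW
    rw [← ord_eq ht]
    exact H951.ord_dvd_finrank hx' (hW.inf H951.inv_cm) (H951.inf_fx_of_le_cm h0 hx' inf_le_right)
  have hcm : finrank F (cm (x : Module.End F V)) = k := by
    have h1 := hdvd ⊤ H951.inv_top
    rw [top_inf_eq] at h1
    have h2 : finrank F (cm (x : Module.End F V)) ≤ finrank F V := Submodule.finrank_le _
    have h3 : finrank F (cm (x : Module.End F V)) ≠ 0 := fun h => cm_ne_bot hx1' (Submodule.finrank_eq_zero.1 h)
    obtain ⟨A, hA⟩ := h1
    have hA1 : A = 1 := by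
      have h4 : A < 2 := by
        by_contra hcon
        push Not at hcon
        have := Nat.mul_le_mul_left k hcon
        omega
      have h5 : A ≠ 0 := by rintro rfl; omega
      omega
    rw [hA, hA1, mul_one]
  have hor : ∀ W : Submodule F V, Inv (x : Module.End F V) W →
      W ≤ fx (x : Module.End F V) ∨ cm (x : Module.End F V) ≤ W := by
    intro W hW
    have h1 := hdvd W hW
    have h2 : finrank F ↥(W ⊓ cm (x : Module.End F V)) ≤ finrank F (cm (x : Module.End F V)) :=
      Submodule.finrank_mono inf_le_right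
    rcases Nat.eq_zero_or_pos (finrank F ↥(W ⊓ cm (x : Module.End F V))) with h3 | h3
    · left
      have h4 : W ⊓ cm (x : Module.End F V) = ⊥ := Submodule.finrank_eq_zero.1 h3
      have h5 := H951.inf_fx_sup_inf_cm h0 hx' hW
      rw [h4, sup_bot_eq] at h5
      rw [← h5]
      exact inf_le_right
    · right
      have := Nat.le_of_dvd h3 h1
      have h6 : W ⊓ cm (x : Module.End F V) = cm (x : Module.End F V) := Submodule.eq_of_le_of_finrank_eq inf_le_right (by omega)
      rw [← h6]
      exact inf_le_left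
  have hadd := H951.finrank_fx_add_cm h0 hx'
  refine ⟨by omega, hcm, hor, fun U hU hUi => ?_⟩
  rcases hor U hUi with h1 | h1
  · left
    rw [eq_bot_iff, ← hc.inf_eq_bot]
    exact le_inf h1 hU
  · exact Or.inr (le_antisymm hU h1)

/-- the general divisibility: `k` divides the dimension of `[V, x]` -/
theorem dvd_cm (ht : PP (Nat.card F) k t) (hk : 2 ≤ k) (hx : x ^ t = 1) : k ∣ finrank F (cm (x : Module.End F V)) := by
  have := Fact.mk ht.prime
  have hx' := coe_pow_eq hx
  have h0 : (t : F) ≠ 0 := ht.ne0 (by omega)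
  rw [← ord_eq ht]
  exact H951.ord_dvd_finrank hx' H951.inv_cm (H951.inf_fx_of_le_cm h0 hx' le_rfl)

theorem add_fx_cm (ht : PP (Nat.card F) k t) (hk : 2 ≤ k) (hx : x ^ t = 1) :
    finrank F (fx (x : Module.End F V)) + finrank F (cm (x : Module.End F V)) = finrank F V := by
  have := Fact.mk ht.prime
  exact H951.finrank_fx_add_cm (ht.ne0 (by omega)) (coe_pow_eq hx)

theorem nd_cm (hB : ∀ x, B x x = 0) (hnd : ∀ x, (∀ y, B x y = 0) → x = 0) (ht : PP (Nat.card F) k t) (hk : 2 ≤ k) (hxI : x ∈ Isos B)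
    (hx : x ^ t = 1) : Nd (fun u v => B u v) (cm (x : Module.End F V)) := by
  have := Fact.mk ht.prime
  have h1 := (isom_of hxI).nd_inf_cm (frm hB) (ht.ne0 (by omega)) (coe_pow_eq hx) H951.inv_top (nd_top hnd)
  rwa [top_inf_eq] at h1

theorem nd_fx (hB : ∀ x, B x x = 0) (hnd : ∀ x, (∀ y, B x y = 0) → x = 0) (ht : PP (Nat.card F) k t) (hk : 2 ≤ k) (hxI : x ∈ Isos B)
    (hx : x ^ t = 1) : Nd (fun u v => B u v) (fx (x : Module.End F V)) := by
  have := Fact.mk ht.prime
  have h1 := (isom_of hxI).nd_inf_fx (frm hB) (ht.ne0 (by omega)) (coe_pow_eq hx) H951.inv_top (nd_top hnd)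
  rwa [top_inf_eq] at h1

/-- **odd** `k` : `dim [V, x] = 2 k` if `4 k > dim V` -/
theorem dim_odd (hB : ∀ x, B x x = 0) (hnd : ∀ x, (∀ y, B x y = 0) → x = 0) (ht : PP (Nat.card F) k t) (hk : 2 ≤ k)
    (hodd : Odd k) (hn : finrank F V < 4 * k) (hxI : x ∈ Isos B) (hx : x ^ t = 1) (hx1 : x ≠ 1) :
    finrank F (cm (x : Module.End F V)) = 2 * k := by
  obtain ⟨a, ha⟩ := dvd_cm ht hk hx
  have hev := even_of_nd hB (nd_cm hB hnd ht hk hxI hx)
  rw [ha, Nat.even_mul] at hev
  have h2 : finrank F (cm (x : Module.End F V)) ≤ finrank F V := Submodule.finrank_le _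
  have h3 : finrank F (cm (x : Module.End F V)) ≠ 0 := fun h => cm_ne_bot (coe_ne_one hx1) (Submodule.finrank_eq_zero.1 h)
  rcases hev with h4 | ⟨b, hb⟩
  · exact absurd h4 (Nat.not_even_iff_odd.2 hodd)
  · have h5 : a < 4 := by
      by_contra hcon
      push Not at hcon
      have := Nat.mul_le_mul_left k hcon
      rw [ha] at h2
      omega
    have h6 : b ≠ 0 := by
      rintro rfl
      rw [hb, add_zero, mul_zero] at ha
      exact h3 ha
    have h7 : a = 2 := by omega
    rw [ha, h7, mul_comm]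

/-- **the extension field and an element of order** `t`, `k` even, `k > n / 2` -/
theorem ext_even {H : Subgroup (V ≃ₗ[F] V)} {s : ℕ} (hA : AExt s H) (hxH : x ∈ H) (ht : PP (Nat.card F) k t) (hk : 2 ≤ k)
    (hn : finrank F V < 2 * k) (hx : x ^ t = 1) (hx1 : x ≠ 1) (hts : t ≠ s) : s ∣ k := by
  obtain ⟨h1, h2, -, -⟩ := blk ht hk hn hx hx1
  have h3 := hA.dvd_finrank
  have h4 := hA.dvd_fx hxH ht.prime hx hts
  rw [← h1] at h3
  exact (Nat.dvd_add_right h4).1 h3

/-- the kernel of a polynomial -/
theorem AExt.dvd_ker {H : Subgroup (V ≃ₗ[F] V)} {s : ℕ} (h : AExt s H) (hxH : x ∈ H)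
    (hr : t.Prime) (hxr : x ^ t = 1) (hrs : t ≠ s) (P : F[X]) :
    s ∣ finrank F (LinearMap.ker (aeval (x : Module.End F V) P)) := by
  obtain ⟨n, φ, K, hs, hK, hle⟩ := h
  have h0 : (cj φ x) ^ t = 1 := by rw [← map_pow, hxr, map_one]
  have h1 := H906.Cov.ext_dvd hs hK (t := cj φ x) (hle ⟨x, hxH, rfl⟩)
    (Nat.Coprime.coprime_dvd_left (orderOf_dvd_of_pow_eq_one h0) ((Nat.coprime_primes hr hs).2 hrs)) P
  have hcomm : ∀ (P : F[X]) (w : V), aeval (Matrix.toLin' (cj φ x : Matrix (Fin n) (Fin n) F)) P (φ w) =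
      φ (aeval (x : Module.End F V) P w) := by
    intro P w
    induction P using Polynomial.induction_on' with
    | add a b ha hb => simp only [map_add, LinearMap.add_apply, ha, hb]
    | monomial i a =>
      rw [aeval_monomial, aeval_monomial, Module.End.mul_apply, Module.End.mul_apply, Module.algebraMap_end_apply,
        Module.algebraMap_end_apply, map_smul]
      congr 1
      induction i with
      | zero => rfl
      | succ i ih =>
        rw [pow_succ', pow_succ', Module.End.mul_apply, Module.End.mul_apply, ih, Matrix.toLin'_apply, cj_apply']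
        rfl
  have h2 : (LinearMap.ker (aeval (x : Module.End F V) P)).map (φ : V →ₗ[F] (Fin n → F)) =
      LinearMap.ker (aeval (Matrix.toLin' (cj φ x : Matrix (Fin n) (Fin n) F)) P) := by
    ext w
    rw [LinearMap.mem_ker]
    constructor
    · rintro ⟨v, hv, rfl⟩
      change aeval (Matrix.toLin' (cj φ x : Matrix (Fin n) (Fin n) F)) P (φ v) = 0
      rw [hcomm, LinearMap.mem_ker.1 hv, map_zero]
    · intro h4
      refine ⟨φ.symm w, ?_, φ.apply_symm_apply w⟩
      apply φ.injective
      rw [← hcomm, φ.apply_symm_apply, h4, map_zero]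
  rw [← h2] at h1
  rwa [LinearEquiv.finrank_map_eq φ] at h1

/-- a polynomial with kernel of dimension `k`, `k` odd, `dim [V, x] = 2 k` -/
theorem exists_ker (hB : ∀ x, B x x = 0) (hnd : ∀ x, (∀ y, B x y = 0) → x = 0) (ht : PP (Nat.card F) k t) (hk : 2 ≤ k)
    (hodd : Odd k) (hxI : x ∈ Isos B) (hx : x ^ t = 1) (hdim : finrank F (cm (x : Module.End F V)) = 2 * k) :
    ∃ P : F[X], finrank F (LinearMap.ker (aeval (x : Module.End F V) P)) = k := by
  have := Fact.mk ht.prime
  have hx' := coe_pow_eq hx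
  have h0 : (t : F) ≠ 0 := ht.ne0 (by omega)
  have hfr := frm (B := B) hB
  have hiso := isom_of hxI
  have hss := H951.semisimple_of_pow h0 hx'
  have hnc := nd_cm hB hnd ht hk hxI hx
  have hne : cm (x : Module.End F V) ≠ ⊥ := by
    intro h
    rw [h, finrank_bot] at hdim
    omega
  have hirr : ∀ S : Submodule F V, Irr (x : Module.End F V) S → S ≤ cm (x : Module.End F V) → finrank F S = k := by
    intro S hS hSc
    rw [hS.finrank_eq h0 hx' hSc, ord_eq ht]
  have hno : ∀ S : Submodule F V, Irr (x : Module.End F V) S → S ≤ cm (x : Module.End F V) → ¬ Nd (fun u v => B u v) S := by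
    intro S hS hSc hSn
    have h1 := even_of_nd hB hSn
    rw [hirr S hS hSc] at h1
    exact (Nat.not_even_iff_odd.2 hodd) h1
  rcases H951.exists_block hfr hiso x.injective hss H951.inv_cm hnc hne with ⟨U, hU, hUi, hUn⟩ | ⟨U, U', hU, hU', hUi, hUi', hti, hti', hint, hp, -⟩
  · exact (hno U hUi hU hUn).elim
  · have hcy : cyclotomic t F ≠ 0 := cyclotomic_ne_zero t F
    obtain ⟨P, hP, hd, hPU⟩ := hUi.exists_factor (cyclotomic t F) hcy fun v hv => H951.cyclotomic_apply_of_mem_cm hx' (hU hv)
    have hdeg : P.natDegree = k := by rw [← hUi.finrank_eq_natDegree hP hPU, hirr U hUi hU]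
    refine ⟨P, ?_⟩
    -- the kernel lies in `[V, x]`
    have hker : LinearMap.ker (aeval (x : Module.End F V) P) ≤ cm (x : Module.End F V) := by
      apply H951.le_cm_of_inf_fx h0 hx' (H951.inv_ker_aeval P)
      rw [eq_bot_iff]
      rintro v ⟨hv, hvf⟩
      by_contra hv0
      have h1 := H951.natDegree_le_finrank (W := F ∙ v) hP (LinearMap.mem_ker.1 hv) hv0 (by
        intro w hw
        obtain ⟨a, rfl⟩ := Submodule.mem_span_singleton.1 hw
        rw [map_smul, H951.mem_fx.1 hvf]
        exact Submodule.smul_mem _ _ (Submodule.mem_span_singleton_self v)) (Submodule.mem_span_singleton_self v)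
      rw [hdeg, finrank_span_singleton hv0] at h1
      omega
    obtain ⟨a, ha⟩ := H951.natDegree_dvd_finrank hss hP (H951.inv_ker_aeval P) (W := LinearMap.ker (aeval (x : Module.End F V) P))
      (fun v hv => LinearMap.mem_ker.1 hv)
    rw [hdeg] at ha
    have hle : finrank F (LinearMap.ker (aeval (x : Module.End F V) P)) ≤ 2 * k := by
      rw [← hdim]; exact Submodule.finrank_mono hker
    have hUk : U ≤ LinearMap.ker (aeval (x : Module.End F V) P) := fun v hv => LinearMap.mem_ker.2 (hPU v hv)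
    have hge := Submodule.finrank_mono hUk
    rw [hirr U hUi hU] at hge
    by_contra hcon
    have ha2 : a = 2 := by
      have h1 : a < 3 := by
        by_contra h2
        push Not at h2
        have := Nat.mul_le_mul_left k h2
        omega
      have h2 : a ≠ 0 := by rintro rfl; omega
      have h3 : a ≠ 1 := by rintro rfl; rw [mul_one] at ha; exact hcon ha
      omega
    subst ha2
    have hall : LinearMap.ker (aeval (x : Module.End F V) P) = cm (x : Module.End F V) :=
      Submodule.eq_of_le_of_finrank_eq hker (by omega)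
    obtain ⟨S, hS, hSi, hSn⟩ := H951.exists_nd_irr hfr hiso x.injective hP hUi hUi' hPU
      (fun u hu => LinearMap.mem_ker.1 (by rw [hall]; exact hU' hu)) hti hti' hp (by
        by_contra hcon2
        push Not at hcon2
        obtain ⟨u, hu, hu0⟩ := (Submodule.ne_bot_iff _).1 hUi'.1
        have h1 : (x : Module.End F V) ((x : Module.End F V) u) = u := hcon2 u hu
        have h2 : ((x : Module.End F V) ^ 2) u = u := by rw [pow_two]; exact h1
        have ht2 : Odd t := ht.odd hk
        obtain ⟨c, hc⟩ := ht2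
        have h3 : (((x : Module.End F V) ^ 2) ^ c) u = u := H951.pow_fx h2 c
        have h4 : ((x : Module.End F V) ^ t) u = (x : Module.End F V) u := by
          rw [hc, pow_succ', pow_mul, Module.End.mul_apply, h3]
        rw [hx'] at h4
        have h5 : u ∈ fx (x : Module.End F V) := H951.mem_fx.2 h4.symm
        have h6 := (H951.isCompl_fx_cm h0 hx').inf_eq_bot
        apply hu0
        rw [← Submodule.mem_bot F, ← h6]
        exact ⟨h5, hU' hu⟩)
    exact hno S hSi (hS.trans (sup_le hU hU')) hSn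

/-- **the extension field and an element of order** `t`, `k` odd, `dim [V, x] = 2 k` -/
theorem ext_odd {H : Subgroup (V ≃ₗ[F] V)} {s : ℕ} (hB : ∀ x, B x x = 0) (hnd : ∀ x, (∀ y, B x y = 0) → x = 0)
    (hA : AExt s H) (hxH : x ∈ H) (hxI : x ∈ Isos B) (ht : PP (Nat.card F) k t) (hk : 2 ≤ k) (hodd : Odd k)
    (hdim : finrank F (cm (x : Module.End F V)) = 2 * k) (hx : x ^ t = 1) (hts : t ≠ s) : s ∣ k := by
  obtain ⟨P, hP⟩ := exists_ker hB hnd ht hk hodd hxI hx hdim
  rw [← hP]
  exact AExt.dvd_ker hA hxH ht.prime hx hts P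

/-- **two parities** : `2 j`, `2 k` with `j / 2 + k / 2` odd -/
theorem par (hB : ∀ x, B x x = 0) (hnd : ∀ x, (∀ y, B x y = 0) → x = 0) {H : Subgroup (V ≃ₗ[F] V)} (hH : H ≤ Isos B)
    (hirr : ∀ W : Submodule F V, (∀ h ∈ H, ∀ w ∈ W, h w ∈ W) → W = ⊥ ∨ W = ⊤) {j k r s : ℕ}
    (hr : PP (Nat.card F) j r) (hs : PP (Nat.card F) k s) (hj : Even j) (hk : Even k) (hnj : finrank F V < 2 * j)
    (hnk : finrank F V < 2 * k) (hj2 : 2 ≤ j) (hk2 : 2 ≤ k) (hpar : Odd (j / 2 + k / 2))
    (hrH : r ∣ Nat.card H) (hsH : s ∣ Nat.card H) (hA : AExt 2 H) : False := by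
  obtain ⟨n, φ, K, -, hK, hle⟩ := hA
  have hn' := finrank_of_equiv φ
  have hc : Nat.card (H.map (cj φ).toMonoidHom) = Nat.card H := Subgroup.card_map_of_injective (cj φ).injective
  let B' : LinearMap.BilinForm F (Fin n → F) := B.compl₁₂ (φ.symm : (Fin n → F) →ₗ[F] V) (φ.symm : (Fin n → F) →ₗ[F] V)
  have hB' : ∀ u v, B' u v = B (φ.symm u) (φ.symm v) := fun u v => rfl
  have hBn : B'.Nondegenerate := by
    apply nondeg_of
    · intro x; rw [hB']; exact hB _
    · intro x hx
      have h1 := hnd (φ.symm x) fun y => by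
        have := hx (φ y)
        rwa [hB', φ.symm_apply_apply] at this
      rw [← φ.apply_symm_apply x, h1, map_zero]
  refine no_field2_gen (H := H.map (cj φ).toMonoidHom) (B := B') ?_ hBn ?_ hr hs hj hk (by rw [Fintype.card_fin]; omega)
    (by rw [Fintype.card_fin]; omega) hj2 hk2 hpar (by rw [hc]; exact hrH) (by rw [hc]; exact hsH) hK hle
  · intro W hW
    rcases hirr (W.comap (φ : V →ₗ[F] (Fin n → F))) (by
      intro h hh w hw
      have h1 := hW _ ⟨cj φ h, ⟨h, hh, rfl⟩, rfl⟩ ⟨φ w, hw, rfl⟩
      rw [Matrix.toLin'_apply, cj_apply'] at h1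
      exact h1) with h1 | h1
    · left
      rw [Submodule.eq_bot_iff] at h1 ⊢
      intro w hw
      have : φ.symm w ∈ W.comap (φ : V →ₗ[F] (Fin n → F)) := by
        change φ (φ.symm w) ∈ W
        rwa [φ.apply_symm_apply]
      rw [← φ.apply_symm_apply w, h1 _ this, map_zero]
    · right
      rw [eq_top_iff]
      intro w _
      have : φ.symm w ∈ W.comap (φ : V →ₗ[F] (Fin n → F)) := by rw [h1]; trivial
      have h2 : φ (φ.symm w) ∈ W := this
      rwa [φ.apply_symm_apply] at h2
  · rintro _ ⟨x, hx, rfl⟩ u w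
    change B' ((cj φ x : Matrix (Fin n) (Fin n) F) *ᵥ u) ((cj φ x : Matrix (Fin n) (Fin n) F) *ᵥ w) = _
    rw [hB', hB', cj_apply, cj_apply, φ.symm_apply_apply, φ.symm_apply_apply]
    exact hH hx _ _

/-- a quadratic form with a given polarisation, characteristic two -/
theorem exists_quad (h2 : (2 : F) = 0) (hB : ∀ x, B x x = 0) : ∃ Q : QuadraticForm F V, ∀ u v, polar Q u v = B u v := by
  classical
  let b := finBasis F V
  let M : Matrix (Fin (finrank F V)) (Fin (finrank F V)) F := fun i j => if i < j then B (b i) (b j) else 0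
  let T : LinearMap.BilinForm F V := Matrix.toBilin b M
  refine ⟨LinearMap.BilinMap.toQuadraticMap T, fun u v => ?_⟩
  have h1 : polar (LinearMap.BilinMap.toQuadraticMap T) u v = T u v + T v u := by
    simp only [polar, LinearMap.BilinMap.toQuadraticMap_apply, map_add, LinearMap.add_apply]
    ring
  have h3 : T + T.flip = B := by
    refine LinearMap.BilinForm.ext_basis b fun i j => ?_
    change T (b i) (b j) + T (b j) (b i) = B (b i) (b j)
    have hT : ∀ i j, T (b i) (b j) = M i j := by
      intro i j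
      have h5 := congrFun (congrFun (LinearMap.BilinForm.toMatrix_toBilin b M) i) j
      rw [LinearMap.BilinForm.toMatrix_apply] at h5
      exact h5
    rw [hT, hT]
    change (if i < j then B (b i) (b j) else 0) + (if j < i then B (b j) (b i) else 0) = _
    rcases lt_trichotomy i j with h | h | h
    · rw [if_pos h, if_neg (not_lt.2 h.le), add_zero]
    · subst h
      rw [if_neg (lt_irrefl _), add_zero, hB]
    · rw [if_neg (not_lt.2 h.le), if_pos h, zero_add]
      have h4 := hB (b i + b j)
      simp only [map_add, LinearMap.add_apply, hB, zero_add, add_zero] at h4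
      linear_combination h4 - (B (b i) (b j)) * h2
  rw [h1, ← h3]
  rfl

/-- **the list lemma** -/
theorem sp_list (hP : H659.CovCore.S5948Stmt.{v}) (hB : ∀ x, B x x = 0) (hnd : ∀ x, (∀ y, B x y = 0) → x = 0)
    {H : Subgroup (V ≃ₗ[F] V)} (hH : H ≤ Isos B) (hne : ¬ Isos B ≤ H) {g : V ≃ₗ[F] V} (hg : g ∈ H)
    (hnum : Num (Fintype.card F) (finrank F V) k (orderOf g)) :
    (∃ W : Submodule F V, W ≠ ⊥ ∧ W ≠ ⊤ ∧ ∀ h ∈ H, ∀ w ∈ W, h w ∈ W) ∨
    (∃ s, s.Prime ∧ s ∣ Nat.gcd (finrank F V) k ∧ AExt s H) ∨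
    ((2 : F) = 0 ∧ ∃ Q : QuadraticForm F V, (∀ u v, polar Q u v = B u v) ∧ E Q ≤ H) := by
  by_cases h2 : (2 : F) = 0
  · obtain ⟨Q, hQ⟩ := exists_quad h2 hB
    have hQn : LieClassical.OrthCore.Nondeg Q := by
      intro x hx
      exact hnd x fun y => by rw [← hQ]; exact hx y
    rcases H128.Rg.sp_abs hP h2 hQn (H := H) (fun h hh u v => by rw [hQ, hQ]; exact hH hh u v) hg hnum with h | h | h | ⟨Q', h3, h4⟩
    · exact Or.inl h
    · exact Or.inr (Or.inl h)
    · exfalso
      apply hne
      intro x hx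
      exact h x fun u v => by rw [hQ, hQ]; exact hx u v
    · exact Or.inr (Or.inr ⟨h2, Q', fun u v => by rw [h3, hQ], h4⟩)
  · -- odd characteristic
    set n := finrank F V with hn
    let φ : V ≃ₗ[F] (Fin n → F) := LinearEquiv.ofFinrankEq _ _ (by rw [Module.finrank_fintype_fun_eq_card, Fintype.card_fin])
    have ho : orderOf (cj φ g) = orderOf g := MulEquiv.orderOf_eq _ g
    have hodd : Odd (Fintype.card F) := by
      rw [← Nat.not_even_iff_odd]
      intro h3
      apply h2
      have h4 : ((Fintype.card F : ℕ) : F) = 0 := FiniteField.cast_card_eq_zero F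
      obtain ⟨p, hp⟩ := CharP.exists F
      have hpp : p.Prime := CharP.char_is_prime F p
      obtain ⟨a, -, ha⟩ := FiniteField.card F p
      rw [ha] at h3
      have h5 : p = 2 := by
        have h6 := even_iff_two_dvd.1 h3
        exact ((Nat.prime_dvd_prime_iff_eq Nat.prime_two hpp).1 (Nat.prime_two.dvd_of_dvd_pow h6)).symm
      subst h5
      exact CharP.cast_eq_zero F 2
    let f' : (Fin n → F) → (Fin n → F) → F := fun u v => B (φ.symm u) (φ.symm v)
    have hpres : ∀ h : V ≃ₗ[F] V, (h ∈ Isos B) ↔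
        ∀ u v, f' ((cj φ h : Matrix (Fin n) (Fin n) F) *ᵥ u) ((cj φ h : Matrix (Fin n) (Fin n) F) *ᵥ v) = f' u v := by
      intro h
      constructor
      · intro hh u v
        change B (φ.symm _) (φ.symm _) = B (φ.symm u) (φ.symm v)
        rw [cj_apply, cj_apply, φ.symm_apply_apply, φ.symm_apply_apply]
        exact hh _ _
      · intro hh u v
        have h1 : B (φ.symm ((cj φ h : Matrix (Fin n) (Fin n) F) *ᵥ φ u)) (φ.symm ((cj φ h : Matrix (Fin n) (Fin n) F) *ᵥ φ v)) =
          B (φ.symm (φ u)) (φ.symm (φ v)) := hh (φ u) (φ v)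
        rw [cj_apply', cj_apply', φ.symm_apply_apply, φ.symm_apply_apply, φ.symm_apply_apply, φ.symm_apply_apply] at h1
        exact h1
    have hsk : ∀ u v, B u v = - B v u := by
      intro u v
      have h4 := hB (u + v)
      simp only [map_add, LinearMap.add_apply, hB, zero_add, add_zero] at h4
      linear_combination h4
    have hf' : IsSymplecticForm f' := by
      refine ⟨⟨?_, ?_, ?_, ?_⟩, fun v w => hsk _ _, fun v => hB _, ?_⟩
      · intro x y v; change B (φ.symm (x + y)) _ = _; rw [map_add, map_add, LinearMap.add_apply]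
      · intro c x v; change B (φ.symm (c • x)) _ = _; rw [map_smul, map_smul, LinearMap.smul_apply, smul_eq_mul]
      · intro v x y; change B _ (φ.symm (x + y)) = _; rw [map_add, map_add]
      · intro c v x; change B _ (φ.symm (c • x)) = _; rw [map_smul, map_smul, smul_eq_mul]
      · intro v hv
        have h1 : ∃ y, B (φ.symm v) y ≠ 0 := by
          by_contra h3
          push Not at h3
          have h4 := hnd _ h3
          apply hv
          rw [← φ.apply_symm_apply v, h4, map_zero]
        obtain ⟨y, hy⟩ := h1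
        refine ⟨⟨φ y, ?_⟩, ⟨φ y, ?_⟩⟩
        · change B (φ.symm (φ y)) (φ.symm v) ≠ 0
          rw [φ.symm_apply_apply, hsk]
          exact neg_ne_zero.2 hy
        · change B (φ.symm v) (φ.symm (φ y)) ≠ 0
          rw [φ.symm_apply_apply]
          exact hy
    rcases H659.CovSp.og_sp hP (k := k) hodd hf' (H := H.map (cj φ).toMonoidHom) (by
      rintro _ ⟨_, ⟨x, hx, rfl⟩, rfl⟩ u v
      exact (hpres x).1 (hH hx) u v) (by
      by_contra hcon
      push Not at hcon
      apply hne
      intro x hx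
      obtain ⟨y, hy, hyx⟩ := hcon (cj φ x) (by
        rintro _ rfl u v
        exact (hpres x).1 hx u v)
      have : y = x := (cj φ).injective hyx
      rw [← this]
      exact hy) (g := cj φ g) ⟨g, hg, rfl⟩ (by rw [ho, Fintype.card_fin]; exact hnum) with ⟨W, hW0, hW1, hW⟩ | ⟨s, K, hs, hsd, hK, hle⟩
    · left
      refine ⟨W.comap (φ : V →ₗ[F] (Fin n → F)), ?_, ?_, ?_⟩
      · intro h0
        apply hW0
        rw [Submodule.eq_bot_iff]
        intro w hw
        have : φ.symm w ∈ W.comap (φ : V →ₗ[F] (Fin n → F)) := by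
          change φ (φ.symm w) ∈ W
          rwa [φ.apply_symm_apply]
        rw [h0, Submodule.mem_bot] at this
        rw [← φ.apply_symm_apply w, this, map_zero]
      · intro h0
        apply hW1
        rw [eq_top_iff]
        intro w _
        have : φ.symm w ∈ W.comap (φ : V →ₗ[F] (Fin n → F)) := by rw [h0]; trivial
        have h1 : φ (φ.symm w) ∈ W := this
        rwa [φ.apply_symm_apply] at h1
      · intro h hh w hw
        have h1 : cj φ h ∈ subspaceStabilizer W := hW ⟨h, hh, rfl⟩
        have h2 : (cj φ h : Matrix (Fin n) (Fin n) F) *ᵥ φ w ∈ W := (h1 (φ w)).1 hw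
        rw [cj_apply'] at h2
        exact h2
    · right; left
      rw [Fintype.card_fin] at hsd
      exact ⟨s, hs, hsd, n, φ, K, hs, hK, hle⟩

end elt

end Cfsg.Agent.H925.Rs
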