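import Cfsg.Agent.H193.Dg.Cyc
import Cfsg.Agent.H454.Reg.Tools
import Cfsg.Agent.H925.Rs.Elt

/-!
# S3691: facts on the two factors (helper925)

* `pp_q` : primitive primes for `p ^ (f k)` and for `q ^ k`
* `Pair.mem_or`, `Pair.not_both`, `Pair.elt` : primes `t`, `ord_t(q) = k`
* `Pair.list` : the list lemma for a factor
-/

set_option autoImplicit false
set_option linter.unusedSectionVars false

namespace Cfsg.Agent.H925.Rs

open Module QuadraticMap Cfsg Cfsg.Geo Matrix Polynomial Cfsg.Agent.LieClassical.OrthCore Cfsg.Agent.H884.El Cfsg.Agent.H449.Reg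
open Cfsg.Agent.H951 (fx cm Inv Irr Frm Nd TI Isom)
open Cfsg.Agent.H278.Cov (Num Red Ext)
open scoped MatrixGroups

universe v w

theorem pp_q {p f k t q : ℕ} (hf : 1 ≤ f) (_hk : 1 ≤ k) (hq : q = p ^ f) (h : PP p (f * k) t) : PP q k t := by
  refine ⟨h.prime, ?_⟩
  rw [hq, Nat.cast_pow, orderOf_pow' _ (by omega), h.ord, Nat.gcd_eq_right (Dvd.intro _ rfl), Nat.mul_div_cancel_left _ (by omega)]

theorem not_dvd_f {p f k t : ℕ} (hf : 1 ≤ f) (hk : 1 ≤ k) (h : PP p (f * k) t) : ¬ t ∣ f := by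
  intro h0
  have h1 := Nat.le_of_dvd (by omega) h0
  have h2 := h.lt (Nat.mul_pos hf hk)
  have h3 : f ≤ f * k := Nat.le_mul_of_pos_right _ hk
  omega

section

variable {F : Type v} [Field F] [Fintype F] {V : Type w} [AddCommGroup V] [Module F V] [FiniteDimensional F V]
  {B : LinearMap.BilinForm F V} {p f m k t : ℕ} {A C : Subgroup (V ≃ₗ[F] V)}

theorem finite_end : Finite (V ≃ₗ[F] V) := by
  have : Finite V := Module.finite_of_finite F
  exact DFunLike.finite _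

/-- Cauchy -/
theorem exists_elt {H : Subgroup (V ≃ₗ[F] V)} (ht : t.Prime) (h : t ∣ Nat.card H) : ∃ x ∈ H, x ^ t = 1 ∧ x ≠ 1 := by
  have := finite_end (F := F) (V := V)
  have := Fact.mk ht
  obtain ⟨x, hx⟩ := exists_prime_orderOf_dvd_card' t h
  refine ⟨x.1, x.2, ?_, ?_⟩
  · have h1 := congrArg Subtype.val (pow_orderOf_eq_one x)
    rw [hx] at h1
    exact h1
  · intro h1
    have h2 : x = 1 := Subtype.ext h1
    rw [h2, orderOf_one] at hx
    exact ht.one_lt.ne hx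

theorem dvd_card_of {H : Subgroup (V ≃ₗ[F] V)} (ht : t.Prime) {x : V ≃ₗ[F] V} (hxH : x ∈ H) (hx : x ^ t = 1) (hx1 : x ≠ 1) :
    t ∣ Nat.card H := by
  have h1 := orderOf_dvd_natCard (⟨x, hxH⟩ : H)
  rwa [← Subgroup.orderOf_coe, orderOf_eq_prime hx hx1 (hp := ⟨ht⟩)] at h1

/-- `t`-subgroups, `k > n / 2` -/
theorem cyc_of {Γ : Type*} [Group Γ] [Finite Γ] (ht : PP (Nat.card F) k t) (hk : 2 ≤ k) (hn : finrank F V < 2 * k)
    (hΓ : IsPGroup t Γ) (ρ : Γ →* (V ≃ₗ[F] V)) (hρ : Function.Injective ρ) : IsCyclic Γ := by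
  have := Fact.mk ht.prime
  have : Finite V := Module.finite_of_finite F
  let ρ' : Γ →* Module.End F V :=
    { toFun := fun g => (ρ g : Module.End F V)
      map_one' := by rw [map_one]; rfl
      map_mul' := fun a b => by rw [map_mul]; rfl }
  refine H193.Dg.isCyclic_of_R hΓ ρ' ?_ (d := k) ?_ (by omega) (ht.ne0 (by omega)) ?_
  · intro a b hab
    apply hρ
    apply LinearEquiv.ext
    intro v
    exact congrArg (fun e : Module.End F V => e v) hab
  · intro m hm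
    exact (ht.dvd_iff (one_lt_q F).le m).1 hm
  · intro γ hγ hγ1
    exact (blk ht hk hn (x := ρ γ) (by rw [← map_pow, hγ, map_one]) (fun h => hγ1 (hρ (by rw [h, map_one])))).2.1

namespace Pair

variable (P : Pair B p f m A C)
include P

theorem ne_one {x : V ≃ₗ[F] V} (hm : 1 ≤ m) (hx : x ∈ Isos B) {a : F} (h : ∀ v, x v = a • v) : a * a = 1 := by
  have : Nontrivial V := Module.nontrivial_of_finrank_pos (R := F) (by rw [P.dim]; omega)
  obtain ⟨v, hv⟩ := exists_ne (0 : V)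
  obtain ⟨w, hw⟩ : ∃ w, B v w ≠ 0 := by
    by_contra hno
    push Not at hno
    exact hv (P.nondeg v hno)
  have h1 := hx v w
  rw [h, h, map_smul, map_smul, LinearMap.smul_apply, smul_eq_mul, smul_eq_mul, ← mul_assoc] at h1
  exact mul_right_cancel₀ hw (by rw [h1, one_mul])

/-- a scalar isometry of odd order is trivial -/
theorem eq_one_of_scalar {x : V ≃ₗ[F] V} (hm : 1 ≤ m) (hx : x ∈ Isos B) {a : F} (h : ∀ v, x v = a • v) (ht : Odd t)
    (hxt : x ^ t = 1) : x = 1 := by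
  have h1 := P.ne_one hm hx h
  have h2 : x ^ 2 = 1 := by
    apply LinearEquiv.ext
    intro v
    rw [pow_two]
    change x (x v) = v
    rw [h, h, smul_smul, h1, one_smul]
  obtain ⟨c, rfl⟩ := ht
  rw [pow_succ, pow_mul, h2, one_pow, one_mul] at hxt
  exact hxt

theorem two_ne (hk : 2 ≤ k) (ht : PP p (f * k) t) : t ≠ 2 := by
  have h1 := ht.lt (Nat.mul_pos P.hf (by omega))
  have h2 := Nat.mul_le_mul P.hf hk
  omega

theorem pp (hk : 1 ≤ k) (ht : PP p (f * k) t) : PP (Nat.card F) k t := pp_q P.hf hk P.card ht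

theorem val0 (hk : 2 ≤ k) (ht : PP p (f * k) t) :
    (Nat.card A).factorization t + (Nat.card C).factorization t = (Nat.card (Isos B)).factorization t :=
  P.val t ht.prime (P.two_ne hk ht) (not_dvd_f P.hf (by omega) ht)

theorem mem_or (hk : 2 ≤ k) (ht : PP p (f * k) t) (h : t ∣ Nat.card (Isos B)) : t ∣ Nat.card A ∨ t ∣ Nat.card C := by
  have := finite_end (F := F) (V := V)
  have h1 := P.val0 hk ht
  have h2 := ht.prime.factorization_pos_of_dvd (Nat.card_pos (α := Isos B)).ne' h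
  rcases Nat.eq_zero_or_pos ((Nat.card A).factorization t) with h3 | h3
  · right
    exact Nat.dvd_of_factorization_pos (by omega)
  · left
    exact Nat.dvd_of_factorization_pos (by omega)

theorem dvd_isos {a i : ℕ} (hi : 1 ≤ i) (him : i ≤ m) (h : t ^ a ∣ (p ^ f) ^ (2 * i) - 1) : t ^ a ∣ Nat.card (Isos B) := by
  have hq : Fintype.card F = p ^ f := by rw [← Nat.card_eq_fintype_card, P.card]
  rw [card_Isos P.alt P.nondeg P.dim, hq]
  refine Dvd.dvd.mul_left (h.trans ?_) _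
  have h1 := Finset.dvd_prod_of_mem (fun i => (p ^ f) ^ (2 * (i + 1)) - 1) (Finset.mem_range.2 (by omega : i - 1 < m))
  rw [Nat.sub_add_cancel hi] at h1
  exact h1

/-- `k` even or odd: the primitive prime divides `|Sp|` -/
theorem dvd_isos' {i : ℕ} (hk : 1 ≤ k) (hki : k ∣ 2 * i) (hi : 1 ≤ i) (him : i ≤ m) (ht : PP p (f * k) t) :
    t ∣ Nat.card (Isos B) := by
  have h1 := P.dvd_isos (t := t) (a := 1) hi him (by
    rw [pow_one]
    refine ((pp_q P.hf hk rfl ht).dvd_iff ?_ _).2 hki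
    exact Nat.one_le_pow _ _ P.prime.pos)
  rwa [pow_one] at h1

theorem not_both (hm : 1 ≤ m) (hk : 2 ≤ k) (hmk : m < k) (ht : PP p (f * k) t) (hA : t ∣ Nat.card A) (hC : t ∣ Nat.card C) : False := by
  have := finite_end (F := F) (V := V)
  have := Fact.mk ht.prime
  have hn : finrank F V < 2 * k := by rw [P.dim]; omega
  have hppq := P.pp (by omega) ht
  obtain ⟨a, haA, ha, ha1⟩ := exists_elt ht.prime hA
  obtain ⟨b, hbC, hb, hb1⟩ := exists_elt ht.prime hC
  let a' : Isos B := ⟨a, P.leA haA⟩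
  let b' : Isos B := ⟨b, P.leC hbC⟩
  have ha' : orderOf a' = t := by
    rw [← Subgroup.orderOf_coe]
    exact orderOf_eq_prime ha ha1
  have hb' : orderOf b' = t := by
    rw [← Subgroup.orderOf_coe]
    exact orderOf_eq_prime hb hb1
  have hpg : ∀ x : Isos B, orderOf x = t → IsPGroup t (Subgroup.zpowers x) := fun x hx => by
    rw [IsPGroup.iff_card]
    exact ⟨1, by rw [Nat.card_zpowers, hx, pow_one]⟩
  obtain ⟨P₁, hP₁⟩ := (hpg _ ha').exists_le_sylow
  obtain ⟨Q₁, hQ₁⟩ := (hpg _ hb').exists_le_sylow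
  obtain ⟨g, hg⟩ := MulAction.exists_smul_eq (Isos B) Q₁ P₁
  have h1 : g * b' * g⁻¹ ∈ P₁ := by
    rw [← hg]
    exact Subgroup.smul_mem_pointwise_smul b' (MulAut.conj g) (Q₁ : Subgroup (Isos B)) (hQ₁ (Subgroup.mem_zpowers _))
  have h2 : orderOf (g * b' * g⁻¹) = t := by
    rw [← hb']
    simpa using orderOf_injective (MulAut.conj g).toMonoidHom (MulAut.conj g).injective b'
  have h3 : a' ∈ P₁ := hP₁ (Subgroup.mem_zpowers _)
  have hcP : IsCyclic P₁ := cyc_of hppq hk hn P₁.2 ((Isos B).subtype.comp (P₁ : Subgroup (Isos B)).subtype)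
    (fun x y h => Subtype.ext (Subtype.ext h))
  have h5 : (⟨g * b' * g⁻¹, h1⟩ : P₁) ∈ Subgroup.zpowers (⟨a', h3⟩ : P₁) := by
    refine H454.Reg.mem_zpowers_of_pow_orderOf _ _ ?_
    rw [← Subgroup.orderOf_coe]
    change (⟨g * b' * g⁻¹, h1⟩ : P₁) ^ orderOf a' = 1
    rw [ha'.trans h2.symm]
    exact Subtype.ext (by rw [SubmonoidClass.coe_pow]; exact pow_orderOf_eq_one _)
  obtain ⟨i, hi⟩ := h5
  have h6 : a' ^ i = g * b' * g⁻¹ := congrArg Subtype.val hi
  have h7 : g.1 * b * g.1⁻¹ ∈ A := by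
    have h8 : (a' ^ i).1 = g.1 * b * g.1⁻¹ := by rw [h6]; rfl
    rw [← h8]
    exact A.zpow_mem haA i
  obtain ⟨c, hc⟩ := P.symm.conj b hbC g.1 g.2 h7
  exact hb1 (P.eq_one_of_scalar hm (P.leC hbC) hc (hppq.odd hk) hb)

/-- elements of order `t ^ a` -/
theorem elt {a i : ℕ} (hk : 2 ≤ k) (hmk : m < k) (hki : k = 2 * i) (him : i ≤ m) (ht : PP p (f * k) t) (hA : t ∣ Nat.card A)
    (had : t ^ a ∣ (p ^ f) ^ k - 1) : ∃ g ∈ A, orderOf g = t ^ a := by
  have := finite_end (F := F) (V := V)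
  have := Fact.mk ht.prime
  have hn : finrank F V < 2 * k := by rw [P.dim]; omega
  have hppq := P.pp (by omega) ht
  have h1 := P.val0 hk ht
  have h2 : (Nat.card C).factorization t = 0 :=
    Nat.factorization_eq_zero_of_not_dvd fun h => P.not_both (by omega) hk hmk ht hA h
  have h3 : t ^ a ∣ Nat.card A := by
    have h4 := P.dvd_isos (t := t) (a := a) (i := i) (by omega) him (by rw [← hki]; exact had)
    rw [ht.prime.pow_dvd_iff_le_factorization (Nat.card_pos (α := A)).ne']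
    have h5 := (ht.prime.pow_dvd_iff_le_factorization (Nat.card_pos (α := Isos B)).ne').1 h4
    omega
  obtain ⟨S⟩ : Nonempty (Sylow t A) := inferInstance
  have hcS : IsCyclic S := cyc_of hppq hk hn S.2 (A.subtype.comp (S : Subgroup A).subtype)
    (fun x y h => Subtype.ext (Subtype.ext h))
  obtain ⟨s, hs⟩ := IsCyclic.exists_generator (α := S)
  have hos : orderOf s = Nat.card S := by
    rw [← Nat.card_zpowers]
    have : Subgroup.zpowers s = ⊤ := by
      rw [eq_top_iff]; intro z _; exact hs z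
    rw [this, Subgroup.card_top]
  obtain ⟨c, hc⟩ : t ^ a ∣ Nat.card S := S.pow_dvd_card_of_pow_dvd_card h3
  have hpos : 0 < Nat.card S := Nat.card_pos
  have hc0 : c ≠ 0 := by rintro rfl; omega
  refine ⟨((s ^ c : S) : A), ((s ^ c : S) : A).2, ?_⟩
  rw [Subgroup.orderOf_coe, Subgroup.orderOf_coe, orderOf_pow_of_dvd hc0 (by rw [hos, hc]; exact Dvd.intro_left _ rfl), hos, hc,
    Nat.mul_div_cancel _ (Nat.pos_of_ne_zero hc0)]

end Pair

/-- a large primitive prime power -/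
structure Gd (p f k r a : ℕ) : Prop where
  pp : PP p (f * k) r
  big : 2 * k + 1 < r ^ a
  dvd : r ^ a ∣ (p ^ f) ^ k - 1

/-- a reducible group -/
def RedG (H : Subgroup (V ≃ₗ[F] V)) : Prop := ∃ W : Submodule F V, W ≠ ⊥ ∧ W ≠ ⊤ ∧ ∀ h ∈ H, ∀ w ∈ W, h w ∈ W

/-- characteristic two, `H` contains `Ω(Q)`, `Q` with polar form `B` -/
def OmE (B : LinearMap.BilinForm F V) (H : Subgroup (V ≃ₗ[F] V)) : Prop :=
  (2 : F) = 0 ∧ ∃ Q : QuadraticForm F V, (∀ u v, polar Q u v = B u v) ∧ E Q ≤ H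

theorem irr_of_not {H : Subgroup (V ≃ₗ[F] V)} (h : ¬ RedG H) (W : Submodule F V) (hW : ∀ h ∈ H, ∀ w ∈ W, h w ∈ W) :
    W = ⊥ ∨ W = ⊤ := by
  by_contra hcon
  push Not at hcon
  exact h ⟨W, hcon.1, hcon.2, hW⟩

/-- **the list lemma** -/
theorem list' (hP : H659.CovCore.S5948Stmt.{v}) (hB : ∀ x, B x x = 0) (hnd : ∀ x, (∀ y, B x y = 0) → x = 0)
    (hp : p.Prime) (hf : 1 ≤ f) (hF : Nat.card F = p ^ f) {H : Subgroup (V ≃ₗ[F] V)} (hH : H ≤ Isos B) (hne : ¬ Isos B ≤ H)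
    {r a : ℕ} (G : Gd p f k r a) (h10 : 10 ≤ finrank F V) (hk1 : k ≤ finrank F V) (hk2 : finrank F V < 2 * k)
    {g : V ≃ₗ[F] V} (hg : g ∈ H) (ho : orderOf g = r ^ a) :
    RedG H ∨ (∃ s, s.Prime ∧ s ∣ Nat.gcd (finrank F V) k ∧ AExt s H) ∨ OmE B H := by
  have hnum := num_of hp hf G.pp h10 hk1 hk2 G.big G.dvd
  have hq : Fintype.card F = p ^ f := by rw [← Nat.card_eq_fintype_card, hF]
  exact sp_list hP hB hnd hH hne hg (k := k) (by rw [ho, hq]; exact hnum)

/-- an element of order `t`, `ord_t(q) = dim V`: irreducible -/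
theorem not_red {H : Subgroup (V ≃ₗ[F] V)} (ht : PP (Nat.card F) k t) (hk : 2 ≤ k) (hkn : finrank F V = k) (h : t ∣ Nat.card H) :
    ¬ RedG H := by
  rintro ⟨W, hW0, hW1, hW⟩
  obtain ⟨x, hxH, hx, hx1⟩ := exists_elt ht.prime h
  obtain ⟨-, h2, -, h4⟩ := blk ht hk (by omega) hx hx1
  have h5 : cm (x : Module.End F V) = ⊤ := Submodule.eq_top_of_finrank_eq (by rw [h2, hkn])
  rcases h4 W (by rw [h5]; exact le_top) (fun w hw => hW x hxH w hw) with h6 | h6
  · exact hW0 h6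
  · exact hW1 (h6.trans h5)

/-- `AExt` and even `k` -/
theorem ext_even' {H : Subgroup (V ≃ₗ[F] V)} {s n : ℕ} (hA : AExt s H) (hs : s.Prime) (hn : finrank F V = 2 * n) (hn2 : 2 ≤ n)
    (hnk : n < k) (ht : PP (Nat.card F) k t) (h : t ∣ Nat.card H) : s ∣ k := by
  obtain ⟨x, hxH, hx, hx1⟩ := exists_elt ht.prime h
  refine ext_even hA hxH ht (by omega) (by omega) hx hx1 ?_
  rintro rfl
  have h1 := hA.dvd_finrank
  rw [hn, hs.dvd_mul] at h1
  have h2 := ht.lt (by omega)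
  rcases h1 with h1 | h1
  · have := Nat.le_of_dvd two_pos h1
    omega
  · have := Nat.le_of_dvd (by omega) h1
    omega

/-- `AExt` and odd `k` -/
theorem ext_odd' {H : Subgroup (V ≃ₗ[F] V)} {s n : ℕ} (hB : ∀ x, B x x = 0) (hnd : ∀ x, (∀ y, B x y = 0) → x = 0)
    (hH : H ≤ Isos B) (hA : AExt s H) (hs : s.Prime) (hn : finrank F V = 2 * n) (hn2 : 2 ≤ n)
    (hnk : n < 2 * k) (hk : 3 ≤ k) (hodd : Odd k) (ht : PP (Nat.card F) k t) (h : t ∣ Nat.card H) : s ∣ k := by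
  obtain ⟨x, hxH, hx, hx1⟩ := exists_elt ht.prime h
  refine ext_odd hB hnd hA hxH (hH hxH) ht (by omega) hodd (dim_odd hB hnd ht (by omega) hodd (by omega) (hH hxH) hx hx1) hx ?_
  rintro rfl
  have h1 := hA.dvd_finrank
  rw [hn, hs.dvd_mul] at h1
  have h2 := Nat.le_of_dvd (by have := ht.prime.two_le; omega) (ht.two_mul_dvd hk hodd)
  rcases h1 with h1 | h1
  · have := Nat.le_of_dvd two_pos h1
    omega
  · have := Nat.le_of_dvd (by omega) h1
    omega

/-- the list lemma for a factor -/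
theorem Pair.list (P : Pair B p f m A C) (hP : H659.CovCore.S5948Stmt.{v}) (hm : 5 ≤ m) {i r a : ℕ} (hki : k = 2 * i) (hmk : m < k)
    (him : i ≤ m) (G : Gd p f k r a) (hA : r ∣ Nat.card A) :
    RedG A ∨ (∃ s, s.Prime ∧ s ∣ Nat.gcd (2 * m) k ∧ AExt s A) ∨ OmE B A := by
  obtain ⟨g, hg, ho⟩ := P.elt (by omega) hmk hki him G.pp hA G.dvd
  have h1 := list' hP P.alt P.nondeg P.prime P.hf P.card P.leA P.neA G (by rw [P.dim]; omega) (by rw [P.dim]; omega)
    (by rw [P.dim]; omega) hg ho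
  rwa [P.dim] at h1

end

end Cfsg.Agent.H925.Rs
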