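import Cfsg.Agent.H925.Rs.Fct

/-!
# S3691: the deduction for `PSp_2m(q)`, `m ≥ 5`, first part (helper925)

* `Pair.both` : `r_2m`, `r_(2m-2)` divide `|A|`
* `Pair.irrC` : `r_2m` divides `|A|`, `r_(2m-2)` divides `|C|`, `C` irreducible
-/

set_option autoImplicit false
set_option linter.unusedSectionVars false

namespace Cfsg.Agent.H925.Rs

open Module QuadraticMap Cfsg Cfsg.Geo Matrix Polynomial Cfsg.Agent.LieClassical.OrthCore Cfsg.Agent.H884.El Cfsg.Agent.H449.Reg
open Cfsg.Agent.H951 (fx cm Inv Irr Frm Nd TI Isom)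
open scoped MatrixGroups

universe v w

theorem odd_prime_of_dvd {s o : ℕ} (hs : s.Prime) (ho : Odd o) (h : s ∣ o) : s ≠ 2 := by
  rintro rfl
  exact (Nat.not_even_iff_odd.2 ho) (even_iff_two_dvd.2 h)

theorem eq_two_of_dvd {s a : ℕ} (hs : s.Prime) (ha : 2 ≤ a) (h1 : s ∣ a) (h2 : s ∣ a - 2) : s = 2 := by
  have h3 := Nat.dvd_sub h1 h2
  rw [show a - (a - 2) = 2 by omega] at h3
  exact (Nat.prime_dvd_prime_iff_eq hs Nat.prime_two).1 h3

theorem eq_two_of_dvd4 {s a : ℕ} (hs : s.Prime) (ha : 4 ≤ a) (h1 : s ∣ a) (h2 : s ∣ a - 4) : s = 2 := by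
  have h3 := Nat.dvd_sub h1 h2
  rw [show a - (a - 4) = 2 ^ 2 by omega] at h3
  exact (Nat.prime_dvd_prime_iff_eq hs Nat.prime_two).1 (hs.dvd_of_dvd_pow h3)

section

variable {F : Type v} [Field F] [Fintype F] {V : Type w} [AddCommGroup V] [Module F V] [FiniteDimensional F V]
  {B : LinearMap.BilinForm F V} {p f m k t : ℕ} {A C : Subgroup (V ≃ₗ[F] V)}

namespace Pair

variable (P : Pair B p f m A C)
include P

/-- two parities in the factor `A` -/
theorem par' (hA : AExt 2 A) (hred : ¬ RedG A) {i j a b : ℕ} (hi : m < 2 * i) (hj : m < 2 * j) (hij : Odd (i + j)) (hi1 : 1 ≤ i) (hj1 : 1 ≤ j)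
    (ha : PP p (f * (2 * i)) a) (hb : PP p (f * (2 * j)) b) (haA : a ∣ Nat.card A) (hbA : b ∣ Nat.card A) : False := by
  refine par P.alt P.nondeg P.leA (irr_of_not hred) (P.pp (by omega) ha) (P.pp (by omega) hb) (even_two_mul i) (even_two_mul j)
    (by rw [P.dim]; omega) (by rw [P.dim]; omega) (by omega) (by omega) ?_ haA hbA hA
  rw [Nat.mul_div_cancel_left _ two_pos, Nat.mul_div_cancel_left _ two_pos]
  exact hij

/-- **both in the same factor** -/
theorem both (hP : H659.CovCore.S5948Stmt.{v}) (hm : 5 ≤ m) {t0 t1 : ℕ} (h0 : PP p (f * (2 * m)) t0) (h0A : t0 ∣ Nat.card A)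
    (h1 : PP p (f * (2 * (m - 1))) t1) (h1A : t1 ∣ Nat.card A) {i r a : ℕ} (hmk : m < 2 * i) (him : i ≤ m)
    (G : Gd p f (2 * i) r a) (hA : r ∣ Nat.card A) : OmE B A := by
  have hred : ¬ RedG A := not_red (P.pp (by omega) h0) (by omega) P.dim h0A
  rcases P.list hP hm rfl hmk him G hA with h | ⟨s, hs, hsd, hAs⟩ | h
  · exact absurd h hred
  · exfalso
    have e1 := hsd.trans (Nat.gcd_dvd_left _ _)
    have e2 := ext_even' hAs hs P.dim (by omega) (by omega) (P.pp (by omega) h1) h1A
    have e3 : s = 2 := eq_two_of_dvd hs (by omega) e1 (by rwa [show 2 * m - 2 = 2 * (m - 1) by omega])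
    subst e3
    exact P.par' hAs hred (i := m) (j := m - 1) (by omega) (by omega) ⟨m - 1, by omega⟩ (by omega) (by omega) h0 h1 h0A h1A
  · exact h

/-- **`C` irreducible** -/
theorem irrC (hP : H659.CovCore.S5948Stmt.{v}) (hm : 5 ≤ m) (hred : ¬ RedG C) {t1 t3 t4 o : ℕ}
    (h1 : PP p (f * (2 * (m - 1))) t1) (h1C : t1 ∣ Nat.card C) (h3 : PP p (f * (2 * (m - 2))) t3)
    (hoo : Odd o) (hom : o ≤ m) (hmo : m ≤ o + 1) (hto : PP p (f * o) t4)
    {i r a : ℕ} (hmk : m < 2 * i) (him : i ≤ m) (G : Gd p f (2 * i) r a) (hC : r ∣ Nat.card C)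
    (hA : (∃ s, s.Prime ∧ AExt s A) ∨ t3 ∣ Nat.card C) : OmE B C := by
  rcases P.symm.list hP hm rfl hmk him G hC with h | ⟨s, hs, hsd, hAs⟩ | h
  · exact absurd h hred
  · exfalso
    have e1 := hsd.trans (Nat.gcd_dvd_left _ _)
    have e2 := ext_even' hAs hs P.dim (by omega) (by omega) (P.pp (by omega) h1) h1C
    have e3 : s = 2 := eq_two_of_dvd hs (by omega) e1 (by rwa [show 2 * m - 2 = 2 * (m - 1) by omega])
    subst e3
    have hkill : ¬ t3 ∣ Nat.card C := fun h3C =>
      P.symm.par' hAs hred (i := m - 1) (j := m - 2) (by omega) (by omega) ⟨m - 2, by omega⟩ (by omega) (by omega) h1 h3 h1C h3C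
    rcases hA with ⟨u, hu, hAu⟩ | h3C
    · have h3A : t3 ∣ Nat.card A :=
        (P.mem_or (by omega) h3 (P.dvd_isos' (by omega) dvd_rfl (i := m - 2) (by omega) (by omega) h3)).resolve_right hkill
      have hoC : ¬ t4 ∣ Nat.card C := fun h => by
        have := ext_odd' P.alt P.nondeg P.leC hAs hs P.dim (by omega) (by omega) (by omega) hoo (P.pp (by omega) hto) h
        exact odd_prime_of_dvd hs hoo this rfl
      have hoA : t4 ∣ Nat.card A :=
        (P.mem_or (by omega) hto (P.dvd_isos' (by omega) ⟨2, by ring⟩ (i := o) (by omega) (by omega) hto)).resolve_right hoC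
      have e4 := ext_odd' P.alt P.nondeg P.leA hAu hu P.dim (by omega) (by omega) (by omega) hoo (P.pp (by omega) hto) hoA
      have e5 := odd_prime_of_dvd hu hoo e4
      have e6 := hAu.dvd_finrank
      rw [P.dim] at e6
      have e7 := ext_even' hAu hu P.dim (by omega) (by omega) (P.pp (by omega) h3) h3A
      apply e5
      exact eq_two_of_dvd4 hu (by omega) e6 (by rwa [show 2 * m - 4 = 2 * (m - 2) by omega])
    · exact hkill h3C
  · exact h

end Pair

/-- primes dividing the order of the isometry group -/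
theorem exists_of_dvd (hB : ∀ x, B x x = 0) (hnd : ∀ x, (∀ y, B x y = 0) → x = 0) {n : ℕ} (hn : finrank F V = 2 * n)
    (hk : 1 ≤ k) (ht : PP (Nat.card F) k t) (h : t ∣ Nat.card (Isos B)) : ∃ i, 1 ≤ i ∧ i ≤ n ∧ k ∣ 2 * i := by
  have hq := one_lt_q F
  rw [card_Isos hB hnd hn, ← Nat.card_eq_fintype_card, ht.prime.dvd_mul] at h
  rcases h with h | h
  · exact absurd (ht.prime.dvd_of_dvd_pow h) (ht.not_dvd hk)
  · obtain ⟨i, hi, h1⟩ := (ht.prime.prime.dvd_finsetProd_iff _).1 h
    exact ⟨i + 1, by omega, by have := Finset.mem_range.1 hi; omega, (ht.dvd_iff hq.le _).1 h1⟩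

theorem fac_pos {N : ℕ} (hN : N ≠ 0) (ht : t.Prime) : t ∣ N ↔ 0 < N.factorization t :=
  ⟨fun h => ht.factorization_pos_of_dvd hN h, fun h => Nat.dvd_of_factorization_pos h.ne'⟩

/-- the `t`-part, `t` of odd order `n`, `dim V = 2 n` -/
theorem fac_isos_odd (hB : ∀ x, B x x = 0) (hnd : ∀ x, (∀ y, B x y = 0) → x = 0) {n : ℕ} (hn : finrank F V = 2 * n)
    (hn3 : 3 ≤ n) (hodd : Odd n) (ht : PP (Nat.card F) n t) :
    (Nat.card (Isos B)).factorization t = (Nat.card F ^ n - 1).factorization t := by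
  have hq := one_lt_q F
  have hq0 : ∀ i, Nat.card F ^ (2 * (i + 1)) - 1 ≠ 0 := fun i => by
    have : 1 < Nat.card F ^ (2 * (i + 1)) := Nat.one_lt_pow (by omega) hq
    omega
  obtain ⟨j, rfl⟩ : ∃ j, n = j + 1 := ⟨n - 1, by omega⟩
  rw [card_Isos hB hnd hn, ← Nat.card_eq_fintype_card, Finset.prod_range_succ,
    Nat.factorization_mul (pow_ne_zero _ (by omega)) (mul_ne_zero (Finset.prod_ne_zero_iff.2 fun i _ => hq0 i) (hq0 j)),
    Nat.factorization_mul (Finset.prod_ne_zero_iff.2 fun i _ => hq0 i) (hq0 j), Finsupp.add_apply, Finsupp.add_apply,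
    Nat.factorization_eq_zero_of_not_dvd (fun h => ht.not_dvd (by omega) (ht.prime.dvd_of_dvd_pow h)),
    Nat.factorization_eq_zero_of_not_dvd (n := ∏ i ∈ Finset.range j, (Nat.card F ^ (2 * (i + 1)) - 1)), zero_add, zero_add]
  · have h1 : Nat.card F ^ (2 * (j + 1)) - 1 = (Nat.card F ^ (j + 1) + 1) * (Nat.card F ^ (j + 1) - 1) := by
      have := Nat.sq_sub_sq (Nat.card F ^ (j + 1)) 1
      rw [one_pow, ← pow_mul, mul_comm (j + 1) 2] at this
      exact this
    have h2 : 1 < Nat.card F ^ (j + 1) := Nat.one_lt_pow (by omega) hq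
    rw [h1, Nat.factorization_mul (by omega) (by omega), Finsupp.add_apply, Nat.factorization_eq_zero_of_not_dvd, zero_add]
    intro h3
    have h4 : t ∣ Nat.card F ^ (j + 1) - 1 := (ht.dvd_iff hq.le _).2 dvd_rfl
    have h5 := Nat.dvd_sub h3 h4
    rw [show Nat.card F ^ (j + 1) + 1 - (Nat.card F ^ (j + 1) - 1) = 2 by omega] at h5
    have h6 := (Nat.prime_dvd_prime_iff_eq ht.prime Nat.prime_two).1 h5
    have := ht.lt (by omega)
    omega
  · intro h
    obtain ⟨i, hi, h1⟩ := (ht.prime.prime.dvd_finsetProd_iff _).1 h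
    have h2 := Finset.mem_range.1 hi
    have h3 := (ht.dvd_iff hq.le _).1 h1
    have h4 : j + 1 ∣ i + 1 := (Nat.Coprime.dvd_of_dvd_mul_left (Nat.coprime_two_right.2 hodd) h3)
    have := Nat.le_of_dvd (by omega) h4
    omega

/-- **`C` reducible** -/
theorem Pair.redC (P : Pair B p f m A C) (hm : 5 ≤ m) {t0 t1 t3 t4 t5 o : ℕ}
    (h0 : PP p (f * (2 * m)) t0) (h0A : t0 ∣ Nat.card A)
    (h1 : PP p (f * (2 * (m - 1))) t1) (h1C : t1 ∣ Nat.card C) (h3 : PP p (f * (2 * (m - 2))) t3)
    (h5 : 7 ≤ m → PP p (f * (2 * (m - 3))) t5)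
    (hoo : Odd o) (hom : o ≤ m) (hmo : m ≤ o + 1) (hto : PP p (f * o) t4)
    (hsix : m = 6 → AExt 2 A → (∀ c ∈ C, ∀ t, PP (Nat.card F) 3 t → c ^ t = 1 → c = 1) → False)
    {U : Submodule F V} {Hb : Subgroup (U ≃ₗ[F] U)} (hU : finrank F U = 2 * (m - 1))
    (hUn : ∀ x ∈ U, (∀ y ∈ U, B x y = 0) → x = 0) (hle : Hb ≤ Isos (B.restrict U))
    (hval : ∀ t k, 3 ≤ k → PP (Nat.card F) k t → (Nat.card C).factorization t = (Nat.card Hb).factorization t)
    (hlist : (∃ s, s.Prime ∧ AExt s Hb) ∨ OmE (B.restrict U) Hb)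
    (homv : OmE (B.restrict U) Hb → ∀ t, t.Prime → t ≠ 2 → (Nat.card Hb).factorization t + (Nat.card F ^ (m - 1) - 1).factorization t ≤
      (Nat.card (Isos (B.restrict U))).factorization t)
    (hA : (∃ s, s.Prime ∧ AExt s A) ∨ (t3 ∣ Nat.card C ∧ (OmE (B.restrict U) Hb → Even m ∧ t4 ∣ Nat.card C)))
    (hd : OmE (B.restrict U) Hb → Odd m → ∀ u, u.Prime → u ≠ 2 → u ∣ m → ∃ t d, PP p (f * d) t ∧ d ∣ m - 1 ∧ 3 ≤ d ∧ t ≠ u ∧ 2 * m < d * u) :
    False := by
  have hfe := finite_end (F := F) (V := V)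
  have hfeU := finite_end (F := F) (V := U)
  have hredA : ¬ RedG A := not_red (P.pp (by omega) h0) (by omega) P.dim h0A
  have hBU : ∀ x, B.restrict U x x = 0 := fun x => P.alt x.1
  have hndU : ∀ x, (∀ y, B.restrict U x y = 0) → x = 0 := fun x hx => Subtype.ext (hUn x.1 x.2 fun y hy => hx ⟨y, hy⟩)
  have hmem : ∀ {t k : ℕ}, 3 ≤ k → PP (Nat.card F) k t → t ∣ Nat.card C → t ∣ Nat.card Hb := by
    intro t k hk ht h
    rw [fac_pos (Nat.card_pos (α := Hb)).ne' ht.prime, ← hval t k hk ht]
    exact (fac_pos (Nat.card_pos (α := C)).ne' ht.prime).1 h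
  have h1q := P.pp (by omega) h1
  have h3q := P.pp (by omega) h3
  have hoq := P.pp (by omega) hto
  have hredH : ¬ RedG Hb := not_red h1q (by omega) hU (hmem (by omega) h1q h1C)
  have hq := one_lt_q F
  -- the odd prime lies in `C` only for `o = m - 1`
  have hoC : t4 ∣ Nat.card C → o = m - 1 := by
    intro h
    have h6 := (hmem (by omega) hoq h).trans (Subgroup.card_dvd_of_le hle)
    obtain ⟨i, hi1, hi2, hi3⟩ := exists_of_dvd hBU hndU hU (by omega) hoq h6
    have h7 : o ∣ i := (Nat.Coprime.dvd_of_dvd_mul_left (Nat.coprime_two_right.2 hoo) hi3)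
    have := Nat.le_of_dvd (by omega) h7
    omega
  have hom' : t4 ∣ Nat.card A ∨ t4 ∣ Nat.card C :=
    P.mem_or (by omega) hto (P.dvd_isos' (by omega) ⟨2, by ring⟩ (i := o) (by omega) (by omega) hto)
  by_cases hOm : OmE (B.restrict U) Hb
  · -- part ii
    have hcase : (Even m ∧ t4 ∣ Nat.card C) ∨ (Odd m ∧ ∃ u, u.Prime ∧ AExt u A) := by
      rcases hA with ⟨u, hu, hAu⟩ | ⟨-, h⟩
      · rcases Nat.even_or_odd m with hev | hod
        · left
          refine ⟨hev, hom'.resolve_left fun h => ?_⟩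
          have e4 := ext_odd' P.alt P.nondeg P.leA hAu hu P.dim (by omega) (by omega) (by omega) hoo hoq h
          have e5 := odd_prime_of_dvd hu hoo e4
          have e6 := hAu.dvd_finrank
          rw [P.dim] at e6
          have e7 : o = m - 1 := by
            rcases Nat.lt_or_ge o m with h8 | h8
            · omega
            · exfalso
              have : o = m := by omega
              rw [this] at hoo
              exact (Nat.not_even_iff_odd.2 hoo) hev
          apply e5
          refine eq_two_of_dvd hu (by omega) e6 ?_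
          rw [show 2 * m - 2 = o * 2 by omega]
          exact e4.mul_right 2
        · exact Or.inr ⟨hod, u, hu, hAu⟩
      · exact Or.inl (h hOm)
    rcases hcase with ⟨hev, h4C⟩ | ⟨hod, u, hu, hAu⟩
    · have e1 := hoC h4C
      subst e1
      have e2 := homv hOm t4 hto.prime (P.two_ne (by omega) hto)
      rw [fac_isos_odd hBU hndU hU (by omega) hoo hoq] at e2
      have e3 := (fac_pos (Nat.card_pos (α := Hb)).ne' hto.prime).1 (hmem (by omega) hoq h4C)
      omega
    · have e0 : o = m := by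
        by_contra hne
        have : m = o + 1 := by omega
        rw [this] at hod
        obtain ⟨a, ha⟩ := hoo
        obtain ⟨b, hb⟩ := hod
        omega
      have h4A : t4 ∣ Nat.card A := hom'.resolve_right fun h => by have := hoC h; omega
      have e4 := ext_odd' P.alt P.nondeg P.leA hAu hu P.dim (by omega) (by omega) (by omega) hoo hoq h4A
      have e5 := odd_prime_of_dvd hu hoo e4
      rw [e0] at e4
      obtain ⟨t, d, ht, hdm, hd3, htu, hdu⟩ := hd hOm hod u hu e5 e4
      have htq := P.pp (by omega) ht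
      have e6 := homv hOm t ht.prime (P.two_ne (by omega) ht)
      have e7 : 0 < (Nat.card F ^ (m - 1) - 1).factorization t := by
        have h8 : 1 < Nat.card F ^ (m - 1) := Nat.one_lt_pow (by omega) hq
        refine (fac_pos (by omega) ht.prime).1 ?_
        exact (htq.dvd_iff hq.le _).2 hdm
      have e8 : (Nat.card (Isos (B.restrict U))).factorization t ≤ (Nat.card (Isos B)).factorization t := by
        refine (Nat.factorization_le_iff_dvd (Nat.card_pos (α := Isos (B.restrict U))).ne' (Nat.card_pos (α := Isos B)).ne').2 ?_ t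
        rw [card_Isos hBU hndU hU, card_Isos P.alt P.nondeg P.dim]
        refine Nat.mul_dvd_mul (pow_dvd_pow _ (Nat.pow_le_pow_left (by omega) 2)) ?_
        exact Finset.prod_dvd_prod_of_subset _ _ _ (Finset.range_mono (by omega))
      have e9 := P.val0 (by omega) ht
      rw [hval t d hd3 htq] at e9
      have hA' : t ∣ Nat.card A := (fac_pos (Nat.card_pos (α := A)).ne' ht.prime).2 (by omega)
      obtain ⟨z, hzA, hz, hz1⟩ := exists_elt ht.prime hA'
      have e10 := hAu.dvd_fx hzA ht.prime hz htu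
      have e11 := add_fx_cm htq (by omega) hz
      have e12 := hAu.dvd_finrank
      rw [← e11] at e12
      have e13 := (Nat.dvd_add_right e10).1 e12
      obtain ⟨j, hj⟩ := dvd_cm htq (by omega) hz
      rw [hj] at e13
      have e14 : ¬ u ∣ d := by
        intro h
        have h8 := h.trans hdm
        have h9 := Nat.dvd_sub e4 h8
        rw [show m - (m - 1) = 1 by omega] at h9
        exact hu.one_lt.ne' (Nat.dvd_one.1 h9)
      have e15 := (hu.dvd_mul.1 e13).resolve_left e14
      have e16 : j ≠ 0 := by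
        rintro rfl
        rw [mul_zero] at hj
        exact cm_ne_bot (coe_ne_one hz1) (Submodule.finrank_eq_zero.1 hj)
      have e17 := Nat.le_of_dvd (by omega) e15
      have e18 : finrank F (cm (z : Module.End F V)) ≤ 2 * m := by rw [← P.dim]; exact Submodule.finrank_le _
      have e19 := Nat.mul_le_mul_left d e17
      omega
  · -- part i
    obtain ⟨s, hs, hAs⟩ := hlist.resolve_right hOm
    have f1 := hAs.dvd_finrank
    rw [hU] at f1
    have f2 : ¬ t3 ∣ Nat.card C := by
      intro h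
      have h6 := hmem (by omega) h3q h
      have h7 := ext_even' hAs hs hU (by omega) (by omega) h3q h6
      have h8 : s = 2 := eq_two_of_dvd hs (by omega) f1 (by rwa [show 2 * (m - 1) - 2 = 2 * (m - 2) by omega])
      subst h8
      refine par hBU hndU hle (irr_of_not hredH) h1q h3q (even_two_mul _) (even_two_mul _) (by rw [hU]; omega)
        (by rw [hU]; omega) (by omega) (by omega) ?_ (hmem (by omega) h1q h1C) h6 hAs
      rw [Nat.mul_div_cancel_left _ two_pos, Nat.mul_div_cancel_left _ two_pos]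
      exact ⟨m - 2, by omega⟩
    have h3A : t3 ∣ Nat.card A :=
      (P.mem_or (by omega) h3 (P.dvd_isos' (by omega) dvd_rfl (i := m - 2) (by omega) (by omega) h3)).resolve_right f2
    obtain ⟨u, hu, hAu⟩ : ∃ s, s.Prime ∧ AExt s A := hA.resolve_right fun h => f2 h.1
    have g1 := hAu.dvd_finrank
    rw [P.dim] at g1
    have g2 := ext_even' hAu hu P.dim (by omega) (by omega) h3q h3A
    have g3 : u = 2 := eq_two_of_dvd4 hu (by omega) g1 (by rwa [show 2 * m - 4 = 2 * (m - 2) by omega])
    subst g3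
    have h4A : ¬ t4 ∣ Nat.card A := fun h =>
      odd_prime_of_dvd hu hoo (ext_odd' P.alt P.nondeg P.leA hAu hu P.dim (by omega) (by omega) (by omega) hoo hoq h) rfl
    have h4C := hom'.resolve_left h4A
    have e0 := hoC h4C
    have f3 : s ∣ o := ext_odd' hBU hndU hle hAs hs hU (by omega) (by omega) (by omega) hoo hoq (hmem (by omega) hoq h4C)
    have f4 := odd_prime_of_dvd hs hoo f3
    rcases Nat.lt_or_ge m 7 with h7 | h7
    · -- `m = 6` (`m = 5` : `o = 4` is not odd)
      have h6 : m = 6 := by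
        by_contra h6
        have : o = 4 := by omega
        rw [this] at hoo
        exact absurd hoo (by decide)
      refine hsix h6 hAu fun c hcC t ht hct => ?_
      by_contra hc1
      have g4 := hmem le_rfl ht (dvd_card_of ht.prime hcC hct hc1)
      obtain ⟨x, hxH, hx, hx1⟩ := exists_elt ht.prime g4
      have g5 := dim_odd hBU hndU ht (by omega) (by decide) (by rw [hU, h6]; omega) (hle hxH) hx hx1
      have g6 := add_fx_cm ht (by omega) hx
      have hts : t ≠ s := by
        rintro rfl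
        have g7 := Nat.le_of_dvd (by have := ht.prime.two_le; omega) (ht.two_mul_dvd le_rfl (by decide))
        rw [hs.dvd_mul] at f1
        rcases f1 with g8 | g8
        · have := Nat.le_of_dvd two_pos g8
          omega
        · rw [h6] at g8
          have := Nat.le_of_dvd (by omega) g8
          omega
      have g9 := hAs.dvd_fx hxH ht.prime hx hts
      have g10 : finrank F (fx (x : Module.End F U)) = 4 := by rw [hU, h6] at g6; omega
      rw [g10] at g9
      apply f4
      exact (Nat.prime_dvd_prime_iff_eq hs Nat.prime_two).1 (hs.dvd_of_dvd_pow (show s ∣ 2 ^ 2 from g9))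
    · have h5' := h5 h7
      have h5q := P.pp (by omega) h5'
      rcases P.mem_or (by omega) h5' (P.dvd_isos' (by omega) dvd_rfl (i := m - 3) (by omega) (by omega) h5') with h | h
      · exact P.par' hAu hredA (i := m) (j := m - 3) (by omega) (by omega) ⟨m - 2, by omega⟩ (by omega) (by omega) h0 h5' h0A h
      · have g4 := ext_even' hAs hs hU (by omega) (by omega) h5q (hmem (by omega) h5q h)
        apply f4
        refine eq_two_of_dvd4 hs (by omega) f1 ?_
        rwa [show 2 * (m - 1) - 4 = 2 * (m - 3) by omega]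

end

end Cfsg.Agent.H925.Rs
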