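import Cfsg.Agent.H925.Rs.Main
import Cfsg.Agent.H2.Rs.RmA
import Cfsg.Agent.H242.Rs.FullFpf
import Cfsg.Agent.H803.Rs.Gd

/-!
# S3691: `PSp_2m(q)`, `m ≥ 5` : one of the two factors contains `Ω(Q)` (helper925)

* `Pair.main` : `Pair B p f m A C` implies `OmE B A ∨ OmE B C`
-/

set_option autoImplicit false
set_option linter.unusedSectionVars false

namespace Cfsg.Agent.H925.Rs

open Module QuadraticMap Cfsg Cfsg.Geo Matrix Polynomial Cfsg.Agent.LieClassical.OrthCore Cfsg.Agent.H884.El Cfsg.Agent.H449.Reg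
open Cfsg.Agent.H951 (fx cm Inv Irr Frm Nd TI Isom)
open Cfsg.Agent.H803.Rs
open scoped MatrixGroups

universe v w

section

variable {F : Type v} [Field F] [Fintype F] {V : Type w} [AddCommGroup V] [Module F V] [FiniteDimensional F V]
  {B : LinearMap.BilinForm F V} {p f m k t : ℕ} {A C : Subgroup (V ≃ₗ[F] V)}

/-- the inputs: dimension 8, the order of `O(Q)`, two small groups -/
structure Inp (B : LinearMap.BilinForm F V) (p f : ℕ) : Prop where
  list : H659.CovCore.S5948Stmt.{v}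
  out : H997.Rg.OutJ1.{w}
  dim8 : ∀ (U : Submodule F V) (Hb : Subgroup (U ≃ₗ[F] U)), finrank F U = 8 → 4 ≤ p ^ f →
      (∀ x : U, B.restrict U x x = 0) → (∀ x : U, (∀ y, B.restrict U x y = 0) → x = 0) → Hb ≤ Isos (B.restrict U) →
      ∀ r s : ℕ, PP p (f * 8) r → PP p (f * 6) s → r ∣ Nat.card Hb → s ∣ Nat.card Hb →
      Isos (B.restrict U) ≤ Hb ∨ OmE (B.restrict U) Hb
  omv : ∀ (U : Submodule F V) (Hb : Subgroup (U ≃ₗ[F] U)) (n : ℕ), finrank F U = 2 * n → 4 ≤ n →
      (∀ x : U, B.restrict U x x = 0) → (∀ x : U, (∀ y, B.restrict U x y = 0) → x = 0) → Hb ≤ Isos (B.restrict U) →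
      ¬ Isos (B.restrict U) ≤ Hb → OmE (B.restrict U) Hb → ∀ t1, PP (Nat.card F) (2 * n) t1 → t1 ∣ Nat.card Hb →
      ∀ t, t.Prime → t ≠ 2 → (Nat.card Hb).factorization t + (Nat.card F ^ n - 1).factorization t ≤
        (Nat.card (Isos (B.restrict U))).factorization t
  small41 : Nat.card F = 2 → finrank F V = 20 → ∀ A : Subgroup (V ≃ₗ[F] V), A ≤ Isos B → ¬ Isos B ≤ A → 41 ∣ Nat.card A → ¬ RedG A →
      (∃ s, s.Prime ∧ AExt s A) ∨ OmE B A ∨ Nat.card A ∣ 68880
  small19 : Nat.card F = 2 → finrank F V = 18 → ∀ A : Subgroup (V ≃ₗ[F] V), A ≤ Isos B → ¬ Isos B ≤ A → 19 ∣ Nat.card A → ¬ RedG A →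
      (∃ s, s.Prime ∧ AExt s A) ∨ OmE B A ∨ ¬ 73 ∣ Nat.card A

/-- no full factor -/
theorem Pair.noFull (P : Pair B p f m A C) (I : Inp B p f) (hm : 5 ≤ m) {r r' : ℕ} (hr : PP p (f * (2 * m)) r)
    (hr' : PP p (f * m) r')
    (hbig : (∃ a, 4 * m + 1 < r ^ a ∧ r ^ a ∣ (p ^ f) ^ (2 * m) - 1) ∨ 4 * m + 1 < r' ∨ (r = 41 ∧ r' = 11)) (S : Submodule F V) :
    ¬ Full B C S := fun hS =>
  H2.Rs.no_full_num I.out P hm hS (fun _ hz _ ht htp h1 h2 => H242.Rs.full_fpf P hm hS hz ht htp h1 h2) hr hr' hbig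

theorem Pair.noFullG (P : Pair B p f m A C) (I : Inp B p f) (hm : 5 ≤ m) (hS : Sz m (p ^ f)) {r a : ℕ} (G : Gd p f (2 * m) r a)
    (S : Submodule F V) : ¬ Full B C S := by
  obtain ⟨r', hr'⟩ := exists_ppk P.prime P.hf hS hm (k := m) (by omega) (by omega)
  exact P.noFull I hm G.pp hr' (Or.inl ⟨a, by have := G.big; omega, G.dvd⟩) S

theorem Pair.or0 (P : Pair B p f m A C) (_hm : 5 ≤ m) {i t : ℕ} (ht : PP p (f * (2 * i)) t) (hi : 1 ≤ i) (him : i ≤ m) :
    t ∣ Nat.card A ∨ t ∣ Nat.card C := P.mem_or (by omega) ht (P.dvd_isos' (by omega) dvd_rfl hi him ht)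

/-- the general case -/
theorem Pair.gen (P : Pair B p f m A C) (I : Inp B p f) (hm : 5 ≤ m) (hS : Sz m (p ^ f)) {r0 a0 r1 a1 : ℕ}
    (G0 : Gd p f (2 * m) r0 a0) (G1 : Gd p f (2 * (m - 1)) r1 a1) (h0A : r0 ∣ Nat.card A) : OmE B A ∨ OmE B C := by
  obtain ⟨t3, h3⟩ := exists_ppk P.prime P.hf hS hm (k := 2 * (m - 2)) (by omega) (by omega)
  rcases P.or0 hm G1.pp (by omega) (by omega) with h1 | h1
  · exact Or.inl (P.both I.list hm G0.pp h0A G1.pp h1 (by omega) le_rfl G0 h0A)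
  · rcases P.list I.list hm rfl (by omega) le_rfl G0 h0A with h | ⟨s, hs, -, hAs⟩ | h
    · exact absurd h (not_red (P.pp (by omega) G0.pp) (by omega) P.dim h0A)
    · exact Or.inr (P.coreC I.list hm hS I.dim8 I.omv (fun _ => P.noFullG I hm hS G0) G0.pp h0A G1.pp h1 h3 (Or.inl ⟨s, hs, hAs⟩)
        (by omega) (by omega) G1 h1)
    · exact Or.inl h

/-- the case of two auxiliary even numbers -/
theorem Pair.mid (P : Pair B p f m A C) (I : Inp B p f) (hm : 10 ≤ m) (hS : Sz m (p ^ f)) (hm2 : m < 14) {r0 a0 t1 ra aa rb ab : ℕ}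
    (G0 : Gd p f (2 * m) r0 a0) (h1' : PP p (f * (2 * (m - 1))) t1) (Ga : Gd p f 16 ra aa) (Gb : Gd p f 14 rb ab)
    (h0A : r0 ∣ Nat.card A) : OmE B A ∨ OmE B C := by
  obtain ⟨t3, h3⟩ := exists_ppk P.prime P.hf hS (by omega) (k := 2 * (m - 2)) (by omega) (by omega)
  have hred : ¬ RedG A := not_red (P.pp (by omega) G0.pp) (by omega) P.dim h0A
  rcases P.or0 (by omega) h1' (by omega) (by omega) with h1 | h1
  · exact Or.inl (P.both I.list (by omega) G0.pp h0A h1' h1 (by omega) le_rfl G0 h0A)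
  · rcases P.list I.list (by omega) rfl (by omega) le_rfl G0 h0A with h | ⟨s, hs, -, hAs⟩ | h
    · exact absurd h hred
    · right
      have hGa : PP p (f * (2 * 8)) ra := Ga.pp
      have hGb : PP p (f * (2 * 7)) rb := Gb.pp
      rcases P.or0 (by omega) hGa (by omega) (by omega) with ha | ha
      · rcases P.or0 (by omega) hGb (by omega) (by omega) with hb | hb
        · exfalso
          have e1 := ext_even' hAs hs P.dim (by omega) (by omega) (P.pp (by omega) hGa) ha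
          have e2 := ext_even' hAs hs P.dim (by omega) (by omega) (P.pp (by omega) hGb) hb
          have e3 : s = 2 := eq_two_of_dvd hs (by norm_num) e1 e2
          subst e3
          rcases Nat.even_or_odd m with hev | hod
          · obtain ⟨c, hc⟩ := hev
            exact P.par' hAs hred (i := m) (j := 7) (by omega) (by omega) ⟨c + 3, by omega⟩ (by omega) (by omega) G0.pp hGb h0A hb
          · obtain ⟨c, hc⟩ := hod
            exact P.par' hAs hred (i := m) (j := 8) (by omega) (by omega) ⟨c + 4, by omega⟩ (by omega) (by omega) G0.pp hGa h0A ha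
        · exact P.coreC I.list (by omega) hS I.dim8 I.omv (fun _ => P.noFullG I (by omega) hS G0) G0.pp h0A h1' h1 h3
            (Or.inl ⟨s, hs, hAs⟩) (i := 7) (by omega) (by omega) Gb hb
      · exact P.coreC I.list (by omega) hS I.dim8 I.omv (fun _ => P.noFullG I (by omega) hS G0) G0.pp h0A h1' h1 h3
          (Or.inl ⟨s, hs, hAs⟩) (i := 8) (by omega) (by omega) Ga ha
    · exact Or.inl h

/-- `m = 9`, `q = 2, 3` -/
theorem Pair.nine (P : Pair B p f 9 A C) (I : Inp B p f) (hS : Sz 9 (p ^ f)) (hpf : p ^ f = 2 ∨ p ^ f = 3) {ra aa rb ab r' : ℕ}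
    (h0 : PP p (f * (2 * 9)) 19) (Ga : Gd p f 16 ra aa) (Gb : Gd p f 14 rb ab) (hr' : PP p (f * 9) r') (hbig : 4 * 9 + 1 < r')
    (hr73 : p ^ f = 2 → r' = 73) (h0A : 19 ∣ Nat.card A) : OmE B A ∨ OmE B C := by
  have hred : ¬ RedG A := not_red (P.pp (by omega) h0) (by omega) P.dim h0A
  have hGa : PP p (f * (2 * 8)) ra := Ga.pp
  have hGb : PP p (f * (2 * 7)) rb := Gb.pp
  have hnf : ∀ S, ¬ Full B C S := P.noFull I (by norm_num) h0 hr' (Or.inr (Or.inl hbig))
  rcases P.or0 (by omega) hGa (by omega) (by omega) with ha | ha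
  · exact Or.inl (P.both I.list (by omega) h0 h0A hGa ha (i := 8) (by omega) (by omega) Ga ha)
  have hfin : ((∃ s, s.Prime ∧ AExt s A) ∨ (rb ∣ Nat.card C ∧ (RedG C → (2 : F) = 0 → Even 9 ∧ ∃ t4, PP p (f * (9 - 1)) t4 ∧ t4 ∣ Nat.card C))) →
      OmE B A ∨ OmE B C := fun hA =>
    Or.inr (P.coreC I.list (by omega) hS I.dim8 I.omv (fun _ => hnf) h0 h0A hGa ha hGb hA (i := 8) (by omega) (by omega) Ga ha)
  rcases P.or0 (by omega) hGb (by omega) (by omega) with hb | hb
  · rcases P.list I.list (by omega) (k := 14) (i := 7) rfl (by omega) (by omega) Gb hb with h | ⟨s, hs, -, hAs⟩ | h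
    · exact absurd h hred
    · exact hfin (Or.inl ⟨s, hs, hAs⟩)
    · exact Or.inl h
  · by_cases hch : (2 : F) = 0 ∧ RedG C
    · obtain ⟨h2, hrC⟩ := hch
      have hp2 := char_two P.prime P.hf P.card h2
      subst hp2
      have hq2 : 2 ^ f = 2 := by
        rcases hpf with h | h
        · exact h
        · exfalso
          have h4 : 2 ∣ 2 ^ f := dvd_pow_self 2 (by have := P.hf; omega)
          rw [h] at h4
          norm_num at h4
      obtain rfl := hr73 hq2
      obtain ⟨U, Hb, hU, hUn, hle, hval, -, -⟩ := H951.Rs.exists_sect P (by norm_num) hGa ha hrC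
      have hBU : ∀ x, B.restrict U x x = 0 := fun x => P.alt x.1
      have hndU : ∀ x, (∀ y, B.restrict U x y = 0) → x = 0 := fun x hx => Subtype.ext (hUn x.1 x.2 fun y hy => hx ⟨y, hy⟩)
      have hfeU := finite_end (F := F) (V := U)
      have hfe := finite_end (F := F) (V := V)
      have hrq := P.pp (by omega) hr'
      have h73 : 73 ∣ Nat.card A := by
        refine (P.mem_or (by omega) hr' (P.dvd_isos' (by omega) ⟨2, rfl⟩ (i := 9) (by omega) (by omega) hr')).resolve_right ?_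
        intro h
        have h5 : 73 ∣ Nat.card Hb := by
          rw [fac_pos (Nat.card_pos (α := Hb)).ne' hr'.prime, ← hval 73 9 (by omega) hrq]
          exact (fac_pos (Nat.card_pos (α := C)).ne' hr'.prime).1 h
        obtain ⟨j, hj1, hj2, hj3⟩ := exists_of_dvd hBU hndU hU (by omega) hrq (h5.trans (Subgroup.card_dvd_of_le hle))
        have h8 : 9 ∣ j := Nat.Coprime.dvd_of_dvd_mul_left (by norm_num) hj3
        have := Nat.le_of_dvd (by omega) h8
        omega
      rcases I.small19 (by rw [P.card, hq2]) (by rw [P.dim]) A P.leA P.neA h0A hred with h | h | h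
      · exact hfin (Or.inl h)
      · exact Or.inl h
      · exact absurd h73 h
    · exact hfin (Or.inr ⟨hb, fun h1 h2 => absurd ⟨h2, h1⟩ hch⟩)

/-- `m = 10`, `q = 2` -/
theorem Pair.ten (P : Pair B 2 1 10 A C) (I : Inp B 2 1) (h0A : 41 ∣ Nat.card A) : OmE B A ∨ OmE B C := by
  have hS : Sz 10 (2 ^ 1) := ⟨by norm_num, by norm_num⟩
  have h0 : PP 2 (1 * (2 * 10)) 41 := pp_2_20
  have h1' : PP 2 (1 * (2 * (10 - 1))) 19 := pp_2_18
  have hred : ¬ RedG A := not_red (P.pp (by omega) h0) (by omega) P.dim h0A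
  have hGa : PP 2 (1 * (2 * 8)) 257 := gd_2_16.pp
  have hGb : PP 2 (1 * (2 * 7)) 43 := gd_2_14.pp
  have hnf : ∀ S, ¬ Full B C S := P.noFull I (by norm_num) h0 pp_2_10 (Or.inr (Or.inr ⟨rfl, rfl⟩))
  have hcard : Nat.card F = 2 := by rw [P.card, pow_one]
  rcases I.small41 hcard (by rw [P.dim]) A P.leA P.neA h0A hred with ⟨s, hs, hAs⟩ | h | h
  · rcases P.or0 (by omega) h1' (by omega) (by omega) with h1 | h1
    · exfalso
      have e1 := hAs.dvd_finrank
      rw [P.dim] at e1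
      have e2 := ext_even' hAs hs P.dim (by omega) (by omega) (P.pp (by omega) h1') h1
      have e3 : s = 2 := eq_two_of_dvd hs (by norm_num) e1 e2
      subst e3
      exact P.par' hAs hred (i := 10) (j := 10 - 1) (by omega) (by omega) ⟨9, by omega⟩ (by omega) (by omega) h0 h1' h0A h1
    · right
      rcases P.or0 (by omega) hGa (by omega) (by omega) with ha | ha
      · rcases P.or0 (by omega) hGb (by omega) (by omega) with hb | hb
        · exfalso
          have e1 := ext_even' hAs hs P.dim (by omega) (by omega) (P.pp (by omega) hGa) ha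
          have e2 := ext_even' hAs hs P.dim (by omega) (by omega) (P.pp (by omega) hGb) hb
          have e3 : s = 2 := eq_two_of_dvd hs (by norm_num) e1 e2
          subst e3
          exact P.par' hAs hred (i := 10) (j := 7) (by omega) (by omega) ⟨8, by omega⟩ (by omega) (by omega) h0 hGb h0A hb
        · exact P.coreC I.list (by omega) hS I.dim8 I.omv (fun _ => hnf) h0 h0A h1' h1 hGa
            (Or.inl ⟨s, hs, hAs⟩) (i := 7) (by omega) (by omega) gd_2_14 hb
      · exact P.coreC I.list (by omega) hS I.dim8 I.omv (fun _ => hnf) h0 h0A h1' h1 hGa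
          (Or.inl ⟨s, hs, hAs⟩) (i := 8) (by omega) (by omega) gd_2_16 ha
  · exact Or.inl h
  · have hno : ∀ t, ¬ t ∣ 68880 → t ∣ Nat.card A ∨ t ∣ Nat.card C → t ∣ Nat.card C := fun t ht h1 =>
      h1.resolve_left fun h2 => ht (h2.trans h)
    have h1 := hno 19 (by norm_num) (P.or0 (by omega) h1' (by omega) (by omega))
    have ha := hno 257 (by norm_num) (P.or0 (by omega) hGa (by omega) (by omega))
    have h73 := hno 73 (by norm_num) (P.mem_or (by omega) pp_2_9 (P.dvd_isos' (by omega) ⟨2, rfl⟩ (i := 9) (by omega) (by omega) pp_2_9))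
    exact Or.inr (P.coreC I.list (by omega) hS I.dim8 I.omv (fun _ => hnf) h0 h0A h1' h1 hGa
      (Or.inr ⟨ha, fun _ _ => ⟨⟨5, rfl⟩, 73, pp_2_9, h73⟩⟩) (i := 8) (by omega) (by omega) gd_2_16 ha)

/-- **one of the two factors contains** `Ω(Q)` -/
theorem Pair.main (P : Pair B p f m A C) (I : Inp B p f) (hm : 5 ≤ m) (hS : Sz m (p ^ f)) : OmE B A ∨ OmE B C := by
  have hp := P.prime
  have hf := P.hf
  have hpow : ∀ n : ℕ, n.Prime → p ^ f = n → p = n ∧ f = 1 := by
    intro n hn h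
    have h1 : p ∣ n := by rw [← h]; exact dvd_pow_self p (by omega)
    have h2 := (Nat.prime_dvd_prime_iff_eq hp hn).1 h1
    subst h2
    refine ⟨rfl, ?_⟩
    have h3 : p ^ f = p ^ 1 := by rw [h, pow_one]
    exact Nat.pow_right_injective hp.two_le h3
  -- symmetry
  by_cases hb0 : (p ^ f = 2 ∧ (m = 9 ∨ m = 10)) ∨ (p ^ f = 3 ∧ m = 9)
  · rcases hb0 with ⟨hq, h | h⟩ | ⟨hq, h⟩
    · obtain ⟨rfl, rfl⟩ := hpow 2 Nat.prime_two hq
      subst h
      rcases P.or0 (by omega) (t := 19) (i := 9) pp_2_18 (by omega) (by omega) with h0 | h0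
      · exact P.nine I hS (Or.inl hq) pp_2_18 gd_2_16 gd_2_14 pp_2_9 (by norm_num) (fun _ => rfl) h0
      · exact (P.symm.nine I hS (Or.inl hq) pp_2_18 gd_2_16 gd_2_14 pp_2_9 (by norm_num) (fun _ => rfl) h0).symm
    · obtain ⟨rfl, rfl⟩ := hpow 2 Nat.prime_two hq
      subst h
      rcases P.or0 (by omega) (t := 41) (i := 10) pp_2_20 (by omega) (by omega) with h0 | h0
      · exact P.ten I h0
      · exact (P.symm.ten I h0).symm
    · obtain ⟨rfl, rfl⟩ := hpow 3 Nat.prime_three hq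
      subst h
      rcases P.or0 (by omega) (t := 19) (i := 9) pp_3_18 (by omega) (by omega) with h0 | h0
      · exact P.nine I hS (Or.inr hq) pp_3_18 gd_3_16 gd_3_14 pp_3_9 (by norm_num) (fun h => by norm_num at h) h0
      · exact (P.symm.nine I hS (Or.inr hq) pp_3_18 gd_3_16 gd_3_14 pp_3_9 (by norm_num) (fun h => by norm_num at h) h0).symm
  obtain ⟨r0, a0, G0⟩ := exists_gd hp hf hm hS.1 hS.2 (i := m) (Or.inl rfl) (by
    rintro (⟨h1, h2⟩ | ⟨h1, h2⟩)
    · exact hb0 (Or.inl ⟨h1, h2⟩)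
    · exact hb0 (Or.inr ⟨h1, h2⟩))
  by_cases hb1 : (p ^ f = 2 ∧ (m - 1 = 9 ∨ m - 1 = 10)) ∨ (p ^ f = 3 ∧ m - 1 = 9)
  · rcases hb1 with ⟨hq, h⟩ | ⟨hq, h⟩
    · have hm11 : m = 11 := by
        rcases h with h | h
        · exact absurd (Or.inl ⟨hq, Or.inr (by omega)⟩) hb0
        · omega
      obtain ⟨rfl, rfl⟩ := hpow 2 Nat.prime_two hq
      subst hm11
      rcases P.or0 (by omega) G0.pp (by omega) (by omega) with h0 | h0
      · exact P.mid I (by omega) hS (by omega) G0 pp_2_20 gd_2_16 gd_2_14 h0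
      · exact (P.symm.mid I (by omega) hS (by omega) G0 pp_2_20 gd_2_16 gd_2_14 h0).symm
    · have hm10 : m = 10 := by omega
      obtain ⟨rfl, rfl⟩ := hpow 3 Nat.prime_three hq
      subst hm10
      rcases P.or0 (by omega) G0.pp (by omega) (by omega) with h0 | h0
      · exact P.mid I (by omega) hS (by omega) G0 pp_3_18 gd_3_16 gd_3_14 h0
      · exact (P.symm.mid I (by omega) hS (by omega) G0 pp_3_18 gd_3_16 gd_3_14 h0).symm
  · obtain ⟨r1, a1, G1⟩ := exists_gd hp hf hm hS.1 hS.2 (i := m - 1) (Or.inr (by omega)) hb1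
    rcases P.or0 (by omega) G0.pp (by omega) (by omega) with h0 | h0
    · exact P.gen I hm hS G0 G1 h0
    · exact (P.symm.gen I hm hS G0 G1 h0).symm

end

end Cfsg.Agent.H925.Rs
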