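import Cfsg.Agent.H925.Rs.Ded
import Cfsg.Agent.H951.Rs.Sect
import Cfsg.Agent.H2.Rs.NoFull
import Cfsg.Agent.H150.Rs.Six

/-!
# S3691: `PSp_2m(q)`, `m ≥ 5` : one factor contains `Ω(Q)` (helper925)

* `exists_pp`, `exists_td` : primitive primes
* `Pair.coreC` : `r_2m` divides `|A|`, `r_(2m-2)` divides `|C|` : `OmE B C`
-/

set_option autoImplicit false
set_option linter.unusedSectionVars false

namespace Cfsg.Agent.H925.Rs

open Module QuadraticMap Cfsg Cfsg.Geo Matrix Polynomial Cfsg.Agent.LieClassical.OrthCore Cfsg.Agent.H884.El Cfsg.Agent.H449.Reg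
open Cfsg.Agent.H951 (fx cm Inv Irr Frm Nd TI Isom)
open scoped MatrixGroups

universe v w

theorem exists_pp {p n : ℕ} (hp : p.Prime) (h3 : 3 ≤ n) (h6 : ¬ (p = 2 ∧ n = 6)) : ∃ t, PP p n t := by
  obtain ⟨t, ht, ho⟩ := Cfsg.Agent.Lib.Zsigmondy.exists_prime_orderOf hp.two_le (by omega : 2 ≤ n) (fun h => by omega) h6
  exact ⟨t, ht, ho⟩

/-- size conditions -/
def Sz (m q : ℕ) : Prop := (m = 5 → 3 < q) ∧ (m ≤ 7 → 2 < q)

theorem exists_ppk {p f m k : ℕ} (hp : p.Prime) (hf : 1 ≤ f) (hS : Sz m (p ^ f)) (hm : 5 ≤ m) (hk : m ≤ k + 1)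
    (hk6 : k = 6 → m ≤ 7) : ∃ t, PP p (f * k) t := by
  refine exists_pp hp ?_ ?_
  · have := Nat.mul_le_mul hf (show 4 ≤ k by omega)
    omega
  · rintro ⟨rfl, h⟩
    have h1 : f = 1 := by
      by_contra h1
      have := Nat.mul_le_mul (show 2 ≤ f by omega) (show 4 ≤ k by omega)
      omega
    subst h1
    rw [one_mul] at h
    have := hS.2 (hk6 h)
    norm_num at this

theorem pp_five : PP 2 (1 * 4) 5 := by
  refine ⟨by norm_num, ?_⟩
  rw [one_mul, orderOf_eq_iff (by norm_num)]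
  refine ⟨by decide +kernel, ?_⟩
  decide +kernel

/-- the primes for the case `E(Q)` of the section, `m` odd, characteristic two -/
theorem exists_td {f m : ℕ} (hf : 1 ≤ f) (hm : 5 ≤ m) (hS : Sz m (2 ^ f)) (hodd : Odd m) {u : ℕ} (hu : u.Prime) (hu2 : u ≠ 2)
    (hum : u ∣ m) : ∃ t d, PP 2 (f * d) t ∧ d ∣ m - 1 ∧ 3 ≤ d ∧ t ≠ u ∧ 2 * m < d * u := by
  have hu3 : 3 ≤ u := by have := hu.two_le; omega
  obtain ⟨t, ht⟩ := exists_ppk Nat.prime_two hf hS hm (k := m - 1) (by omega) (by omega)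
  by_cases htu : t = u
  · subst htu
    -- `f = 1`, `m` prime
    have h1 := ht.lt (Nat.mul_pos hf (by omega))
    have h2 := Nat.le_of_dvd (by omega) hum
    have hf1 : f = 1 := by
      by_contra h3
      have := Nat.mul_le_mul (show 2 ≤ f by omega) (le_refl (m - 1))
      omega
    subst hf1
    have htm : t = m := by omega
    subst htm
    have h8 : 8 ≤ t := by
      by_contra h3
      have := hS.2 (by omega)
      norm_num at this
    obtain ⟨a, ha⟩ := hodd
    by_cases h13 : t = 13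
    · subst h13
      exact ⟨5, 4, pp_five, by norm_num, by norm_num, by norm_num, by norm_num⟩
    · have h9 : t ≠ 9 := by
        rintro rfl
        exact absurd hu (by norm_num)
      obtain ⟨t', ht'⟩ := exists_pp Nat.prime_two (n := a) (by omega) (by omega)
      refine ⟨t', a, by rwa [one_mul], ⟨2, by omega⟩, by omega, ?_, ?_⟩
      · rintro rfl
        have h10 := ht.ord.symm.trans ht'.ord
        omega
      · have := Nat.mul_le_mul (show 5 ≤ a by omega) (le_refl t)
        omega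
  · refine ⟨t, m - 1, ht, dvd_rfl, by omega, htu, ?_⟩
    have := Nat.mul_le_mul (le_refl (m - 1)) hu3
    omega

section

variable {F : Type v} [Field F] [Fintype F] {V : Type w} [AddCommGroup V] [Module F V] [FiniteDimensional F V]
  {B : LinearMap.BilinForm F V} {p f m k t : ℕ} {A C : Subgroup (V ≃ₗ[F] V)}

theorem char_two (hp : p.Prime) (hf : 1 ≤ f) (hF : Nat.card F = p ^ f) (h2 : (2 : F) = 0) : p = 2 := by
  obtain ⟨ℓ, hl⟩ := CharP.exists F
  have hlp : ℓ.Prime := CharP.char_is_prime F ℓ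
  have h3 : ℓ ∣ 2 := by
    rw [← CharP.cast_eq_zero_iff F ℓ]
    exact_mod_cast h2
  have h4 : ℓ = 2 := (Nat.prime_dvd_prime_iff_eq hlp Nat.prime_two).1 h3
  subst h4
  obtain ⟨a, -, ha⟩ := FiniteField.card F 2
  rw [Nat.card_eq_fintype_card, ha] at hF
  have h5 : p ∣ 2 ^ (a : ℕ) := by rw [hF]; exact dvd_pow_self p (by omega)
  exact (Nat.prime_dvd_prime_iff_eq hp Nat.prime_two).1 (hp.dvd_of_dvd_pow h5)

/-- **the main step** -/
theorem Pair.coreC (P : Pair B p f m A C) (hP : H659.CovCore.S5948Stmt.{v}) (hm : 5 ≤ m) (hS : Sz m (p ^ f))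
    (hdim8 : ∀ (U : Submodule F V) (Hb : Subgroup (U ≃ₗ[F] U)), finrank F U = 8 → 4 ≤ p ^ f →
      (∀ x : U, B.restrict U x x = 0) → (∀ x : U, (∀ y, B.restrict U x y = 0) → x = 0) → Hb ≤ Isos (B.restrict U) →
      ∀ r s : ℕ, PP p (f * 8) r → PP p (f * 6) s → r ∣ Nat.card Hb → s ∣ Nat.card Hb →
      Isos (B.restrict U) ≤ Hb ∨ OmE (B.restrict U) Hb)
    (homv : ∀ (U : Submodule F V) (Hb : Subgroup (U ≃ₗ[F] U)) (n : ℕ), finrank F U = 2 * n → 4 ≤ n →
      (∀ x : U, B.restrict U x x = 0) → (∀ x : U, (∀ y, B.restrict U x y = 0) → x = 0) → Hb ≤ Isos (B.restrict U) →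
      ¬ Isos (B.restrict U) ≤ Hb → OmE (B.restrict U) Hb → ∀ t1, PP (Nat.card F) (2 * n) t1 → t1 ∣ Nat.card Hb →
      ∀ t, t.Prime → t ≠ 2 → (Nat.card Hb).factorization t + (Nat.card F ^ n - 1).factorization t ≤
        (Nat.card (Isos (B.restrict U))).factorization t)
    (hfull : RedG C → ∀ S, ¬ Full B C S)
    {t0 t1 t3 : ℕ} (h0 : PP p (f * (2 * m)) t0) (h0A : t0 ∣ Nat.card A)
    (h1 : PP p (f * (2 * (m - 1))) t1) (h1C : t1 ∣ Nat.card C) (h3 : PP p (f * (2 * (m - 2))) t3)
    (hA : (∃ s, s.Prime ∧ AExt s A) ∨ (t3 ∣ Nat.card C ∧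
      (RedG C → (2 : F) = 0 → Even m ∧ ∃ t4, PP p (f * (m - 1)) t4 ∧ t4 ∣ Nat.card C)))
    {i r a : ℕ} (hmi : m < 2 * i) (him : i + 1 ≤ m) (G : Gd p f (2 * i) r a) (hrC : r ∣ Nat.card C) : OmE B C := by
  obtain ⟨o, t4, hoo, hom, hmo, h4, hA4⟩ : ∃ o t4, Odd o ∧ o ≤ m ∧ m ≤ o + 1 ∧ PP p (f * o) t4 ∧
      ((Even m ∧ ∃ t, PP p (f * (m - 1)) t ∧ t ∣ Nat.card C) → t4 ∣ Nat.card C) := by
    rcases Nat.even_or_odd m with h | h
    · by_cases h9 : ∃ t, PP p (f * (m - 1)) t ∧ t ∣ Nat.card C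
      · obtain ⟨t, ht, htC⟩ := h9
        exact ⟨m - 1, t, by obtain ⟨a, ha⟩ := h; exact ⟨a - 1, by omega⟩, by omega, by omega, ht, fun _ => htC⟩
      · obtain ⟨t4, h4⟩ := exists_ppk P.prime P.hf hS hm (k := m - 1) (by omega) (by omega)
        exact ⟨m - 1, t4, by obtain ⟨a, ha⟩ := h; exact ⟨a - 1, by omega⟩, by omega, by omega, h4, fun h10 => absurd h10.2 h9⟩
    · obtain ⟨t4, h4⟩ := exists_ppk P.prime P.hf hS hm (k := m) (by omega) (by omega)
      exact ⟨m, t4, h, le_rfl, by omega, h4, fun h10 => absurd h10.1 (Nat.not_even_iff_odd.2 h)⟩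
  by_cases hred : RedG C
  · exfalso
    obtain ⟨U, Hb, hU, hUn, hle, hval, helt, hsec⟩ := H951.Rs.exists_sect P hm h1 h1C hred
    have hBU : ∀ x, B.restrict U x x = 0 := fun x => P.alt x.1
    have hndU : ∀ x, (∀ y, B.restrict U x y = 0) → x = 0 := fun x hx => Subtype.ext (hUn x.1 x.2 fun y hy => hx ⟨y, hy⟩)
    have hne : ¬ Isos (B.restrict U) ≤ Hb := fun h => by
      obtain ⟨S, hS⟩ := hsec h
      exact hfull hred S hS
    have hfeU := finite_end (F := F) (V := U)
    have hfe := finite_end (F := F) (V := V)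
    have hmem : ∀ {t k : ℕ}, 3 ≤ k → PP (Nat.card F) k t → t ∣ Nat.card C → t ∣ Nat.card Hb := by
      intro t k hk ht h
      rw [fac_pos (Nat.card_pos (α := Hb)).ne' ht.prime, ← hval t k hk ht]
      exact (fac_pos (Nat.card_pos (α := C)).ne' ht.prime).1 h
    have h1q := P.pp (by omega) h1
    have h1H := hmem (by omega) h1q h1C
    have hredH : ¬ RedG Hb := not_red h1q (by omega) hU h1H
    obtain ⟨t5, h5⟩ : ∃ t5, 7 ≤ m → PP p (f * (2 * (m - 3))) t5 := by
      by_cases h7 : 7 ≤ m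
      · obtain ⟨t5, h5⟩ := exists_ppk P.prime P.hf hS hm (k := 2 * (m - 3)) (by omega) (by omega)
        exact ⟨t5, fun _ => h5⟩
      · exact ⟨0, fun h => absurd h h7⟩
    refine P.redC hm h0 h0A h1 h1C h3 h5 hoo hom hmo h4 ?_ hU hUn hle hval ?_ ?_ ?_ ?_
    · intro h6 hA2 hC
      subst h6
      exact H150.Rs.six P (hS.2 (by norm_num)) hA2 hC
    · -- the list for the section
      rcases Nat.lt_or_ge m 6 with h6 | h6
      · have hm5 : m = 5 := by omega
        subst hm5
        have h3C : t3 ∣ Nat.card C := by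
          rcases hA with ⟨u, hu, hAu⟩ | ⟨h, -⟩
          · by_contra hcon
            have h3A := (P.mem_or (by omega) h3 (P.dvd_isos' (by omega) dvd_rfl (i := 5 - 2) (by omega) (by omega) h3)).resolve_right hcon
            have ho5 : o = 5 := by
              by_contra hne5
              have : o = 4 := by omega
              rw [this] at hoo
              exact absurd hoo (by decide)
            subst ho5
            have h4q := P.pp (by omega) h4
            have h4A : t4 ∣ Nat.card A := by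
              refine (P.mem_or (by omega) h4 (P.dvd_isos' (by omega) ⟨2, by ring⟩ (i := 5) (by omega) (by omega) h4)).resolve_right ?_
              intro h
              have h7 := (hmem (by omega) h4q h).trans (Subgroup.card_dvd_of_le hle)
              obtain ⟨j, hj1, hj2, hj3⟩ := exists_of_dvd hBU hndU hU (by omega) h4q h7
              have h8 : 5 ∣ j := (Nat.Coprime.dvd_of_dvd_mul_left (by norm_num) hj3)
              have := Nat.le_of_dvd (by omega) h8
              omega
            have e4 := ext_odd' P.alt P.nondeg P.leA hAu hu P.dim (by omega) (by omega) (by omega) hoo h4q h4A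
            have e5 := ext_even' hAu hu P.dim (by omega) (by omega) (P.pp (by omega) h3) h3A
            have e6 := Nat.dvd_sub e5 e4
            norm_num at e6
            exact hu.one_lt.ne' e6
          · exact h
        have h48 : 4 ≤ p ^ f := hS.1 rfl
        rcases hdim8 U Hb hU h48 hBU hndU hle t1 t3 h1 h3 h1H (hmem (by omega) (P.pp (by omega) h3) h3C) with h | h
        · exact absurd h hne
        · exact Or.inr h
      · obtain ⟨g, hgC, hgo⟩ := P.symm.elt (by omega) hmi rfl (by omega) G.pp hrC G.dvd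
        obtain ⟨x, hxH, hxo⟩ := helt r (2 * i) a (by omega) (P.pp (by omega) G.pp) g hgC hgo
        rcases list' hP hBU hndU P.prime P.hf P.card hle hne G (by rw [hU]; omega) (by rw [hU]; omega) (by rw [hU]; omega) hxH hxo
          with h | ⟨s, hs, -, hAs⟩ | h
        · exact absurd h hredH
        · exact Or.inl ⟨s, hs, hAs⟩
        · exact Or.inr h
    · intro hOm
      exact homv U Hb (m - 1) hU (by omega) hBU hndU hle hne hOm t1 h1q h1H
    · rcases hA with h | ⟨h, h'⟩
      · exact Or.inl h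
      · refine Or.inr ⟨h, fun hOm => ?_⟩
        have h'' := h' hred hOm.1
        exact ⟨h''.1, hA4 h''⟩
    · intro hOm hodd u hu hu2 hum
      have hp2 := char_two P.prime P.hf P.card hOm.1
      subst hp2
      exact exists_td P.hf hm hS hodd hu hu2 hum
  · refine P.irrC hP hm hred h1 h1C h3 hoo hom hmo h4 hmi (by omega) G hrC ?_
    rcases hA with h | ⟨h, -⟩
    · exact Or.inl h
    · exact Or.inr h

end

end Cfsg.Agent.H925.Rs
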