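import Cfsg.Agent.H925.Rs.Pair
import Cfsg.Agent.H364.OutLie

/-!
# S3691: the factors of a group with socle `PSp_2m(q)` form a `Pair` (helper925)

* `pair_of_fac`
-/

set_option autoImplicit false
set_option linter.unusedSectionVars false

namespace Cfsg.Agent.H925.Rs

open Cfsg Matrix Module Subgroup Cfsg.Agent.H454.Reg Cfsg.Agent.H449.Reg Cfsg.Agent.ClassicalGeometry.SympBasic
  Cfsg.Agent.ClassicalGeometry.SympAutSemi

universe u

section fac

variable {F : Type} [Field F] [Fintype F] {m p f : ℕ} {G : Type u} [Group G] {T : Subgroup G}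

theorem card_ker_eq (hm : 1 ≤ m) (e : T ≃* PSp m F) : Nat.card (prS e).ker = Nat.gcd 2 (Fintype.card F - 1) := by
  have h1 : (prS e).ker = (Subgroup.center (symplecticGroup (Fin m) F)).comap (spE (F := F) (m := m)).symm.toMonoidHom := by
    ext x
    rw [MonoidHom.mem_ker, prS_apply, EmbeddingLike.map_eq_one_iff, QuotientGroup.eq_one_iff]
    rfl
  have h2 : Nat.card (Subgroup.center (symplecticGroup (Fin m) F)) = Nat.card (prS e).ker := by
    rw [h1, card_comap_of_surj _ (MulEquiv.surjective (spE (F := F) (m := m)).symm)]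
    have h3 : Nat.card ((spE (F := F) (m := m)).symm.toMonoidHom).ker = 1 := by
      rw [(MonoidHom.ker_eq_bot_iff _).2 (MulEquiv.injective (spE (F := F) (m := m)).symm), Subgroup.card_bot]
    change _ = _ * Nat.card ((spE (F := F) (m := m)).symm.toMonoidHom).ker
    rw [h3, mul_one]
  rw [← h2, LieClassical.SympCenter.card_center hm]

theorem card_Isos_eq (e : T ≃* PSp m F) : Nat.card (Isos (sympBilin m F)) = Nat.card T * Nat.card (prS e).ker := by
  have h1 := card_comap_of_surj (⊤ : Subgroup T) (prS_surjective e)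
  rw [Subgroup.comap_top, Subgroup.card_top, Subgroup.card_top] at h1
  exact h1

theorem symp_nondeg : ∀ x, (∀ y, sympBilin m F x y = 0) → x = 0 := fun x hx => by
  apply eq_zero_of_forall_sympForm_right
  intro y
  rw [← sympBilin_apply]
  exact hx y

theorem symp_alt : ∀ x, sympBilin m F x x = 0 := fun x => by
  rw [sympBilin_apply]
  exact sympForm_self x

/-- **the factors of a group with socle `PSp`** -/
theorem pair_of_fac [Finite G] (hm : 3 ≤ m) (hp : p.Prime) (hf : 1 ≤ f) (hF : Fintype.card F = p ^ f) (e : T ≃* PSp m F)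
    [IsSimpleGroup T] (hna : ¬ IsMulCommutative T) {X Y : Subgroup G} (h : Fac T X Y) :
    Pair (sympBilin m F) p f m (preS e X) (preS e Y) := by
  have hpf := Fact.mk hp
  -- the outer automorphism group
  have hout : Nat.card (Out T) = Nat.gcd 2 (p ^ f - 1) * f := by
    have h1 := S0814.result p f hf hF m (by omega) (fun h => by omega)
    rw [if_neg (by omega), one_mul] at h1
    refine H934.OutB.card_out_of_aut hna ?_
    rw [H364.OutLie.mulaut_congr e, h1, Nat.card_congr e.toEquiv]
  have hker := card_ker_eq (by omega : 1 ≤ m) e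
  rw [hF] at hker
  have hg0 : Nat.gcd 2 (p ^ f - 1) ≠ 0 := by
    intro h0
    rw [Nat.gcd_eq_zero_iff] at h0
    omega
  have hker0 : Nat.card (prS e).ker ≠ 0 := by rw [hker]; exact hg0
  have hfE : Finite ((Fin m ⊕ Fin m → F) ≃ₗ[F] (Fin m ⊕ Fin m → F)) := DFunLike.finite _
  have hgp : ¬ p ∣ Nat.gcd 2 (p ^ f - 1) := by
    intro hd
    have h2 := hd.trans (Nat.gcd_dvd_right _ _)
    have h3 : p ∣ p ^ f := dvd_pow_self p (by omega)
    have h4 : 1 ≤ p ^ f := Nat.one_le_pow _ _ hp.pos
    have h5 := (Nat.dvd_sub h3 h2)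
    rw [Nat.sub_sub_self h4] at h5
    exact hp.one_lt.ne' (Nat.dvd_one.1 h5)
  have hg2 : ∀ r : ℕ, r.Prime → r ≠ 2 → ¬ r ∣ Nat.gcd 2 (p ^ f - 1) := by
    intro r hr h2 hd
    exact h2 ((Nat.prime_dvd_prime_iff_eq hr Nat.prime_two).1 (hd.trans (Nat.gcd_dvd_left _ _)))
  have hX : ∀ (Z : Subgroup G) (r : ℕ), ¬ r ∣ Nat.gcd 2 (p ^ f - 1) →
      (Nat.card (preS e Z)).factorization r = (Nat.card (Z.subgroupOf T)).factorization r := by
    intro Z r hr
    rw [card_preS, Nat.factorization_mul Nat.card_pos.ne' hker0, Finsupp.add_apply, hker,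
      Nat.factorization_eq_zero_of_not_dvd hr, add_zero]
  have hI : ∀ r : ℕ, ¬ r ∣ Nat.gcd 2 (p ^ f - 1) →
      (Nat.card (Isos (sympBilin m F))).factorization r = (Nat.card T).factorization r := by
    intro r hr
    rw [card_Isos_eq e, Nat.factorization_mul Nat.card_pos.ne' hker0, Finsupp.add_apply, hker,
      Nat.factorization_eq_zero_of_not_dvd hr, add_zero]
  refine ⟨hp, hf, by rw [Nat.card_eq_fintype_card, hF], ?_, symp_alt, symp_nondeg, preS_le, preS_le,
    not_le_preS h.not_le_left, not_le_preS h.not_le_right, fun x hx g hg hgx => not_conj h hx hg hgx, ?_, ?_, ?_, ?_⟩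
  · rw [Module.finrank_fintype_fun_eq_card, Fintype.card_sum, Fintype.card_fin, two_mul]
  · intro r hr h2 hrf
    rw [hX X r (hg2 r hr h2), hX Y r (hg2 r hr h2), hI r (hg2 r hr h2)]
    apply h.val_eq
    rw [hout, hr.dvd_mul]
    rintro (h3 | h3)
    · exact hg2 r hr h2 h3
    · exact hrf h3
  · rw [hX X p hgp, hX Y p hgp, hI p hgp]
    have h1 := h.val_ge p
    rw [hout, Nat.factorization_mul hg0 (by omega), Finsupp.add_apply, Nat.factorization_eq_zero_of_not_dvd hgp, zero_add] at h1
    exact h1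
  · rw [hX X p hgp, hX Y p hgp, hI p hgp]
    exact h.val_le p
  · obtain ⟨c, -, -, hc⟩ := h.card0
    rw [card_preS, card_preS, card_Isos_eq e, ← hc]
    obtain ⟨d, hd⟩ := card_ker (by omega : 1 ≤ m) e
    refine ⟨c * d, ?_⟩
    conv_lhs => rw [hd]
    ring

end fac

end Cfsg.Agent.H925.Rs
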