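import Cfsg.Agent.H925.Rs.Fin
import Cfsg.Agent.H925.Rs.PairFac
import Cfsg.Agent.H410.Rg.ResS
import Cfsg.Agent.H195.Rs.Seven

/-!
# S3691: the row `PSp_2m(q)`, `m ≥ 5`, from its inputs (helper925)

* `false_of_ex` : `Ex T H C`, `¬ T ≤ C`, `T ≃* PSp m F`, `m ≥ 5` : contradiction
-/

set_option autoImplicit false
set_option linter.unusedSectionVars false

namespace Cfsg.Agent.H925.Rs

open Module QuadraticMap Cfsg Matrix Cfsg.Agent.LieClassical.OrthCore Cfsg.Agent.H454.Reg Cfsg.Agent.H449.Reg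
  Cfsg.Agent.ClassicalGeometry.SympBasic

universe u

/-- **the row**, from its inputs -/
theorem false_of_ex {G : Type u} [Group G] [Finite G] {T H C : Subgroup G} (hE : Ex T H C) (hTC : ¬ T ≤ C) {F : Type} [Field F]
    [Fintype F] {m : ℕ} (hm : 5 ≤ m) (h5 : m = 5 → 3 < Fintype.card F) (h6 : m ≤ 6 → 2 < Fintype.card F) (e : T ≃* PSp m F)
    (hMain : H667.HerFin.Main.{0}) (hJ : H997.Rg.OutJ1.{0})
    (hI : ∀ p f : ℕ, p.Prime → 1 ≤ f → Fintype.card F = p ^ f → Inp (sympBilin m F) p f) : False := by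
  have := hE.normal
  have := hE.simple
  obtain ⟨p, hchar⟩ := CharP.exists F
  obtain ⟨f, hp, hF⟩ := FiniteField.card F p
  have hf : 1 ≤ (f : ℕ) := f.pos
  by_cases h7 : m = 7 ∧ Fintype.card F = 2
  · obtain ⟨rfl, h2⟩ := h7
    exact H195.Rs.size7 hE hTC F h2 e
  have hS : Sz m (p ^ (f : ℕ)) := by
    rw [← hF]
    refine ⟨h5, fun h => ?_⟩
    rcases Nat.lt_or_ge m 7 with h8 | h8
    · exact h6 (by omega)
    · have h9 := Fintype.one_lt_card (α := F)
      have h10 : Fintype.card F ≠ 2 := fun h11 => h7 ⟨by omega, h11⟩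
      omega
  have P := pair_of_fac (by omega : 3 ≤ m) hp hf hF e hE.nonab (hE.fac hTC)
  have key : ∀ X : Subgroup G, X = H ∨ X = C → ¬ OmE (sympBilin m F) (preS e X) := by
    rintro X hX ⟨h2, Q, hQ, hEQ⟩
    have hp2 := char_two hp hf (by rw [Nat.card_eq_fintype_card, hF]) h2
    subst hp2
    exact H410.Rg.not_E_le hMain hJ hE hTC e (by omega) hF Q (fun u v => by rw [hQ, sympBilin_apply]) hX hEQ
  rcases P.main (hI p f hp hf hF) hm hS with h | h
  · exact key H (Or.inl rfl) h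
  · exact key C (Or.inr rfl) h

end Cfsg.Agent.H925.Rs
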